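import Cfsg.Agent.J2.Perm.Simple
import Mathlib.GroupTheory.Subgroup.Center

/-! The Hall–Janko group as a permutation group on its reflections. -/

set_option autoImplicit false
set_option maxRecDepth 100000

namespace CfsgLib.J2

open Ico Quaternion Cfsg.Spor Perm CfsgLib.Coset

theorem negOne_act : act negOne = 1 := by
  refine Subtype.ext ((act_spec negOne).unique fun k => ?_)
  obtain ⟨L, hL, hL'⟩ := (lin_of_mem negOne.2).1
  refine conj_Rv (u := -1) ⟨L, hL, hL'⟩ (by simp) ?_
  rw [negOne_apply, OneMemClass.coe_one, Equiv.Perm.one_apply, neg_one_smul]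
  rfl

theorem negOne_ne : negOne ≠ 1 := by
  intro h
  have h1 := negOne_apply (linePt rootF)
  rw [h] at h1
  have h2 : lineR rootF = -lineR rootF := h1
  have h3 : lineR rootF = 0 := eq_zero_of_neg h2.symm
  have h4 := (lineR_spec rootF).2
  rw [h3] at h4
  have h5 : ((0 : ℝ) : ℍ[ℝ]) = ((4 : ℝ) : ℍ[ℝ]) := by
    simp [qip] at h4
    push_cast
    exact h4
  exact absurd (Quaternion.coe_inj.mp h5) (by norm_num)
where
  eq_zero_of_neg {f : Fin 3 → ℍ[ℝ]} (h : -f = f) : f = 0 := by
    have : (2 : ℝ) • f = 0 := by rw [two_smul]; nth_rewrite 1 [← h]; exact neg_add_cancel f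
    exact (smul_eq_zero.mp this).resolve_left two_ne_zero

theorem mem_ker {g : twoJ2} (hg : g ∈ act.ker) : g = 1 ∨ g = negOne := by
  rcases ker_act (MonoidHom.mem_ker.mp hg) with h | h
  · exact Or.inl h
  · refine Or.inr (Subtype.ext (Equiv.ext fun x => Subtype.ext ?_))
    rw [h, negOne_apply]

theorem card_ker : Nat.card act.ker = 2 := by
  have he : ((act.ker : Subgroup twoJ2) : Set twoJ2) = {1, negOne} := by
    ext g
    constructor
    · exact fun hg => mem_ker hg
    · rintro (rfl | rfl)
      · exact one_mem _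
      · exact negOne_act
  rw [show Nat.card act.ker = ((act.ker : Subgroup twoJ2) : Set twoJ2).ncard from
    (Nat.card_coe_set_eq _).symm ▸ rfl, he, Set.ncard_pair (Ne.symm negOne_ne)]

/-- The image group is the presented group. -/
noncomputable def eP : P ≃* G315 :=
  (MonoidHom.ofInjective ρ_injective).trans (MulEquiv.subgroupCongr range_ρ)

theorem simple_G : IsSimpleGroup G315 :=
  have := isSimple
  eP.symm.isSimpleGroup

theorem noncomm_G : ∃ a b : G315, a * b ≠ b * a := by
  obtain ⟨a, b, h⟩ := noncomm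
  exact ⟨eP a, eP b, fun he => h (eP.injective (by simpa using he))⟩

theorem negOne_central : negOne ∈ Subgroup.center twoJ2 := by
  rw [Subgroup.mem_center_iff]
  intro g
  refine Subtype.ext (Equiv.ext fun x => Subtype.ext ?_)
  obtain ⟨L, hL, -⟩ := (lin_of_mem g.2).1
  rw [Subgroup.coe_mul, Subgroup.coe_mul, Equiv.Perm.mul_apply, Equiv.Perm.mul_apply, hL,
    negOne_apply, negOne_apply, hL, map_neg]

theorem center_G_bot : Subgroup.center G315 = ⊥ := by
  have := simple_G
  rcases Subgroup.Normal.eq_bot_or_eq_top (H := Subgroup.center G315) inferInstance with h | h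
  · exact h
  · obtain ⟨a, b, hab⟩ := noncomm_G
    exact absurd (Subgroup.mem_center_iff.mp (h ▸ Subgroup.mem_top b) a) hab

theorem ker_eq_center : act.ker = Subgroup.center twoJ2 := by
  refine le_antisymm (fun g hg => ?_) (fun g hg => ?_)
  · rcases mem_ker hg with rfl | rfl
    · exact one_mem _
    · exact negOne_central
  · have hc : act g ∈ Subgroup.center G315 := by
      rw [Subgroup.mem_center_iff]
      intro y
      obtain ⟨a, rfl⟩ := act_surjective y
      rw [← map_mul, ← map_mul, Subgroup.mem_center_iff.mp hg a]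
    rwa [center_G_bot, Subgroup.mem_bot] at hc

/-- The Hall–Janko group is the group on the lines. -/
noncomputable def eJ : J2 ≃* P :=
  ((QuotientGroup.quotientMulEquivOfEq ker_eq_center.symm).trans
    (QuotientGroup.quotientKerEquivOfSurjective act act_surjective)).trans eP.symm

theorem eJ_mk (g : twoJ2) : eJ (QuotientGroup.mk g) = eP.symm (act g) := rfl

theorem card_J2 : Nat.card J2 = 604800 := by rw [Nat.card_congr eJ.toEquiv, card_P]

theorem card_twoJ2 : Nat.card twoJ2 = 1209600 := by
  rw [Subgroup.card_eq_card_quotient_mul_card_subgroup act.ker, card_ker,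
    Nat.card_congr (QuotientGroup.quotientKerEquivOfSurjective act act_surjective).toEquiv,
    card_G315]

theorem simple_J2 : IsSimpleGroup J2 :=
  have := isSimple
  eJ.isSimpleGroup

theorem noncomm_J2 : ∃ a b : J2, a * b ≠ b * a := by
  obtain ⟨a, b, h⟩ := noncomm
  exact ⟨eJ.symm a, eJ.symm b, fun he => h (eJ.symm.injective (by simpa using he))⟩

theorem ncard_reflections : {f : Equiv.Perm icoLeech | IsIcoReflection f}.ncard = 315 := by
  rw [reflSet_eq, Set.ncard_range_of_injective Rv_injective, Nat.card_fin]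

theorem ncard_minimal : {r : Fin 3 → ℍ[ℝ] | r ∈ icoLeech ∧ qip r r = 4}.ncard = 37800 := by
  have he : {r : Fin 3 → ℍ[ℝ] | r ∈ icoLeech ∧ qip r r = 4} =
      Set.range fun p : Fin 120 × Fin 315 => unitR p.1 • lineR p.2 := by
    ext f
    constructor
    · rintro ⟨hf, h4⟩
      obtain ⟨u, i, e⟩ := min_vector hf h4
      exact ⟨(u, i), e.symm⟩
    · rintro ⟨⟨u, i⟩, rfl⟩
      obtain ⟨hI, hu1, hu2⟩ := unitR_spec u
      obtain ⟨v, hv, he⟩ := MV.mem_icoLeech.mp (lineR_spec i).1
      obtain ⟨q, hq, hqe⟩ := Ico.mem_icosians.mp hI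
      refine ⟨MV.mem_icoLeech.mpr ⟨_, MV.inL_smul hq hv, ?_⟩, ?_⟩
      · rw [MV.toV_smul hq (MV.inL_iff.mp hv).1, hqe, he]
      · rw [qip_smul, (lineR_spec i).2, (Commute.ofNat_right (unitR u) 4).eq, mul_assoc, hu1,
          mul_one]
  rw [he, Set.ncard_range_of_injective ?_, Nat.card_prod, Nat.card_fin, Nat.card_fin]
  rintro ⟨u, i⟩ ⟨v, k⟩ h
  have h' : unitR u • lineR i = unitR v • lineR k := h
  have hik : i = k := Rv_injective (Equiv.ext fun x => Subtype.ext (by
    rw [Rv_apply, Rv_apply, ← qrefl_smul (r := lineR i) (unitR_spec u).2.2, h',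
      qrefl_smul (unitR_spec v).2.2]))
  subst hik
  have hne : lineR i ≠ 0 := by
    intro h0
    have h4 := (lineR_spec i).2
    rw [h0] at h4
    have h5 : ((0 : ℝ) : ℍ[ℝ]) = ((4 : ℝ) : ℍ[ℝ]) := by
      simp [qip] at h4
      push_cast
      exact h4
    exact absurd (Quaternion.coe_inj.mp h5) (by norm_num)
  rw [unitR_injective (smul_left_injective _ hne h')]

end CfsgLib.J2
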