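import Cfsg.Agent.J2.Gens

set_option autoImplicit false
set_option maxRecDepth 100000

namespace CfsgLib.J2

theorem keep1 : blockAll lineKeeps 1 = true := by decide +kernel

theorem keep5 : blockAll lineKeeps 5 = true := by decide +kernel

theorem img0_2 : blockAll (imgOK 0) 2 = true := by decide +kernel

theorem img0_6 : blockAll (imgOK 0) 6 = true := by decide +kernel

theorem img1_3 : blockAll (imgOK 1) 3 = true := by decide +kernel

theorem img2_0 : blockAll (imgOK 2) 0 = true := by decide +kernel

theorem img2_4 : blockAll (imgOK 2) 4 = true := by decide +kernel

theorem img3_1 : blockAll (imgOK 3) 1 = true := by decide +kernel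

theorem img3_5 : blockAll (imgOK 3) 5 = true := by decide +kernel

theorem img4_2 : blockAll (imgOK 4) 2 = true := by decide +kernel

theorem img4_6 : blockAll (imgOK 4) 6 = true := by decide +kernel

theorem sep3 : blockAll sepOK 3 = true := by decide +kernel

theorem tree_all : (List.range 315).all treeOK = true := by decide +kernel

end CfsgLib.J2
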