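import Cfsg.Agent.J2.Gens

set_option autoImplicit false
set_option maxRecDepth 100000

namespace CfsgLib.J2

theorem keep2 : blockAll lineKeeps 2 = true := by decide +kernel

theorem keep6 : blockAll lineKeeps 6 = true := by decide +kernel

theorem img0_3 : blockAll (imgOK 0) 3 = true := by decide +kernel

theorem img1_0 : blockAll (imgOK 1) 0 = true := by decide +kernel

theorem img1_4 : blockAll (imgOK 1) 4 = true := by decide +kernel

theorem img2_1 : blockAll (imgOK 2) 1 = true := by decide +kernel

theorem img2_5 : blockAll (imgOK 2) 5 = true := by decide +kernel

theorem img3_2 : blockAll (imgOK 3) 2 = true := by decide +kernel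

theorem img3_6 : blockAll (imgOK 3) 6 = true := by decide +kernel

theorem img4_3 : blockAll (imgOK 4) 3 = true := by decide +kernel

theorem sep0 : blockAll sepOK 0 = true := by decide +kernel

theorem sep4 : blockAll sepOK 4 = true := by decide +kernel

end CfsgLib.J2
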