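import Cfsg.Agent.J2.Gens

set_option autoImplicit false
set_option maxRecDepth 100000

namespace CfsgLib.J2

theorem keep3 : blockAll lineKeeps 3 = true := by decide +kernel

theorem img0_0 : blockAll (imgOK 0) 0 = true := by decide +kernel

theorem img0_4 : blockAll (imgOK 0) 4 = true := by decide +kernel

theorem img1_1 : blockAll (imgOK 1) 1 = true := by decide +kernel

theorem img1_5 : blockAll (imgOK 1) 5 = true := by decide +kernel

theorem img2_2 : blockAll (imgOK 2) 2 = true := by decide +kernel

theorem img2_6 : blockAll (imgOK 2) 6 = true := by decide +kernel

theorem img3_3 : blockAll (imgOK 3) 3 = true := by decide +kernel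

theorem img4_0 : blockAll (imgOK 4) 0 = true := by decide +kernel

theorem img4_4 : blockAll (imgOK 4) 4 = true := by decide +kernel

theorem sep1 : blockAll sepOK 1 = true := by decide +kernel

theorem sep5 : blockAll sepOK 5 = true := by decide +kernel

end CfsgLib.J2
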