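import Cfsg.Agent.J2.ChkRefl0
import Cfsg.Agent.J2.ChkRefl1
import Cfsg.Agent.J2.ChkRefl2
import Cfsg.Agent.J2.ChkRefl3

/-! The reflection group acting on its 315 reflections. -/

set_option autoImplicit false
set_option maxRecDepth 100000

namespace CfsgLib.J2

open Ico Quaternion Cfsg.Spor

theorem of_blocks {p : Nat → Bool} (h : ∀ b < 7, blockAll p b = true) (i : Fin 315) :
    p i.val = true := by
  have := List.all_eq_true.mp (h (i.val / 45) (by omega)) i.val
    (List.mem_map.mpr ⟨i.val % 45, by rw [List.mem_range]; omega, by omega⟩)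
  exact this

theorem keep_all : ∀ b < 7, blockAll lineKeeps b = true := by
  intro b hb
  interval_cases b
  · exact keep0
  · exact keep1
  · exact keep2
  · exact keep3
  · exact keep4
  · exact keep5
  · exact keep6

theorem sep_all : ∀ b < 7, blockAll sepOK b = true := by
  intro b hb
  interval_cases b
  · exact sep0
  · exact sep1
  · exact sep2
  · exact sep3
  · exact sep4
  · exact sep5
  · exact sep6

theorem img_all0 : ∀ b < 7, blockAll (imgOK 0) b = true := by
  intro b hb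
  interval_cases b
  · exact img0_0
  · exact img0_1
  · exact img0_2
  · exact img0_3
  · exact img0_4
  · exact img0_5
  · exact img0_6

theorem img_all1 : ∀ b < 7, blockAll (imgOK 1) b = true := by
  intro b hb
  interval_cases b
  · exact img1_0
  · exact img1_1
  · exact img1_2
  · exact img1_3
  · exact img1_4
  · exact img1_5
  · exact img1_6

theorem img_all2 : ∀ b < 7, blockAll (imgOK 2) b = true := by
  intro b hb
  interval_cases b
  · exact img2_0
  · exact img2_1
  · exact img2_2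
  · exact img2_3
  · exact img2_4
  · exact img2_5
  · exact img2_6

theorem img_all3 : ∀ b < 7, blockAll (imgOK 3) b = true := by
  intro b hb
  interval_cases b
  · exact img3_0
  · exact img3_1
  · exact img3_2
  · exact img3_3
  · exact img3_4
  · exact img3_5
  · exact img3_6

theorem img_all4 : ∀ b < 7, blockAll (imgOK 4) b = true := by
  intro b hb
  interval_cases b
  · exact img4_0
  · exact img4_1
  · exact img4_2
  · exact img4_3
  · exact img4_4
  · exact img4_5
  · exact img4_6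

theorem img_all (l : Fin 5) (i : Fin 315) : imgOK l.val i.val = true := by
  match l with
  | ⟨0, _⟩ => exact of_blocks img_all0 i
  | ⟨1, _⟩ => exact of_blocks img_all1 i
  | ⟨2, _⟩ => exact of_blocks img_all2 i
  | ⟨3, _⟩ => exact of_blocks img_all3 i
  | ⟨4, _⟩ => exact of_blocks img_all4 i

theorem tree_ok (i : Fin 315) : treeOK i.val = true :=
  List.all_eq_true.mp tree_all i.val (List.mem_range.mpr i.isLt)

/-- A reflection of the lattice. -/
noncomputable def Rv (i : Fin 315) : Equiv.Perm icoLeech :=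
  Function.Involutive.toPerm
    (fun x => ⟨qrefl (lineR i) x.1, qrefl_mem (of_blocks keep_all i) x.2⟩)
    (fun _ => Subtype.ext (qrefl_qrefl (lineR_spec i).2 _))

theorem Rv_apply (i : Fin 315) (x : icoLeech) :
    ((Rv i x : icoLeech) : Fin 3 → ℍ[ℝ]) = qrefl (lineR i) x.1 := rfl

theorem Rv_sq (i : Fin 315) : Rv i * Rv i = 1 :=
  Equiv.ext fun _ => Subtype.ext (qrefl_qrefl (lineR_spec i).2 _)

theorem Rv_inv (i : Fin 315) : (Rv i)⁻¹ = Rv i := inv_eq_of_mul_eq_one_right (Rv_sq i)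

theorem isRefl_iff {f : Equiv.Perm icoLeech} : IsIcoReflection f ↔ ∃ i, f = Rv i := by
  constructor
  · rintro ⟨r, hr, hf⟩
    obtain ⟨u, i, he⟩ := min_vector r.2 hr
    refine ⟨i, Equiv.ext fun x => Subtype.ext ?_⟩
    rw [Rv_apply, hf x, he, qrefl_smul (unitR_spec u).2.2]
  · rintro ⟨i, rfl⟩
    exact ⟨⟨_, (lineR_spec i).1⟩, (lineR_spec i).2, fun x => rfl⟩

theorem reflSet_eq : {f : Equiv.Perm icoLeech | IsIcoReflection f} = Set.range Rv := by
  ext f
  simp [isRefl_iff, eq_comm]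

theorem twoJ2_eq : twoJ2 = Subgroup.closure (Set.range Rv) := by rw [twoJ2, reflSet_eq]

theorem Rv_mem (i : Fin 315) : Rv i ∈ twoJ2 :=
  twoJ2_eq ▸ Subgroup.subset_closure ⟨i, rfl⟩

/-- Restriction of a linear isometry of the quaternionic space. -/
def Lin (g : Equiv.Perm icoLeech) : Prop :=
  ∃ L : (Fin 3 → ℍ[ℝ]) →ₗ[ℍ[ℝ]] (Fin 3 → ℍ[ℝ]),
    (∀ x : icoLeech, ((g x : icoLeech) : Fin 3 → ℍ[ℝ]) = L x.1) ∧
    ∀ a b, qip (L a) (L b) = qip a b

theorem lin_one : Lin 1 := ⟨LinearMap.id, fun _ => rfl, fun _ _ => rfl⟩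

theorem lin_mul {g h : Equiv.Perm icoLeech} (hg : Lin g) (hh : Lin h) : Lin (g * h) := by
  obtain ⟨L, hL, hL'⟩ := hg
  obtain ⟨M, hM, hM'⟩ := hh
  exact ⟨L.comp M, fun x => by rw [Equiv.Perm.mul_apply, hL, hM]; rfl,
    fun a b => by rw [LinearMap.comp_apply, LinearMap.comp_apply, hL', hM']⟩

theorem lin_Rv (i : Fin 315) : Lin (Rv i) :=
  ⟨reflL (lineR i), fun _ => rfl, fun a b => qip_qrefl (lineR_spec i).2 a b⟩

theorem lin_of_mem {g : Equiv.Perm icoLeech} (hg : g ∈ twoJ2) : Lin g ∧ Lin g⁻¹ := by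
  rw [twoJ2_eq] at hg
  induction hg using Subgroup.closure_induction with
  | mem x hx => obtain ⟨i, rfl⟩ := hx; exact ⟨lin_Rv i, (Rv_inv i).symm ▸ lin_Rv i⟩
  | one => exact ⟨lin_one, inv_one (G := Equiv.Perm icoLeech) ▸ lin_one⟩
  | mul x y _ _ hx hy => exact ⟨lin_mul hx.1 hy.1, (mul_inv_rev x y).symm ▸ lin_mul hy.2 hx.2⟩
  | inv x _ hx => exact ⟨hx.2, (inv_inv x).symm ▸ hx.1⟩

/-- A line vector as a lattice point. -/
noncomputable def linePt (i : Fin 315) : icoLeech := ⟨lineR i, (lineR_spec i).1⟩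

theorem conj_Rv {g : Equiv.Perm icoLeech} (hg : Lin g) {i k : Fin 315} {u : ℍ[ℝ]}
    (hu : star u * u = 1) (h : (g (linePt i) : Fin 3 → ℍ[ℝ]) = u • lineR k) :
    g * Rv i * g⁻¹ = Rv k := by
  obtain ⟨L, hL, hL'⟩ := hg
  rw [mul_inv_eq_iff_eq_mul]
  refine Equiv.ext fun x => Subtype.ext ?_
  rw [Equiv.Perm.mul_apply, Equiv.Perm.mul_apply, hL, Rv_apply, Rv_apply, hL,
    ← qrefl_smul (r := lineR k) hu, ← h, hL, qrefl_eq, qrefl_eq, map_sub, map_smul, hL']
  rfl

/-- The conjugation action of `g` on the reflections is `p`. -/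
def Moves (g : Equiv.Perm icoLeech) (p : Equiv.Perm (Fin 315)) : Prop :=
  ∀ k, g * Rv k * g⁻¹ = Rv (p k)

theorem moves_one : Moves 1 1 := fun k => by simp

theorem Moves.mul {g h : Equiv.Perm icoLeech} {p q : Equiv.Perm (Fin 315)} (hg : Moves g p)
    (hh : Moves h q) : Moves (g * h) (p * q) := fun k => by
  rw [Equiv.Perm.mul_apply, ← hg, ← hh]; group

theorem Moves.inv {g : Equiv.Perm icoLeech} {p : Equiv.Perm (Fin 315)} (hg : Moves g p) :
    Moves g⁻¹ p⁻¹ := fun k => by
  obtain ⟨j, rfl⟩ := p.surjective k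
  rw [Equiv.Perm.coe_inv, Equiv.symm_apply_apply, ← hg]; group

/-- The line of a generator. -/
def gIx (l : Fin 5) : Fin 315 := ⟨gLine l.val, by revert l; decide⟩

/-- A generating reflection. -/
noncomputable def gR (l : Fin 5) : Equiv.Perm icoLeech := Rv (gIx l)

theorem img_spec (l : Fin 5) (i : Fin 315) :
    gPerm l.val i.val < 315 ∧ gPerm l.val (gPerm l.val i.val) = i.val ∧
      ∃ u : ℍ[ℝ], star u * u = 1 ∧
        qrefl (lineR (gIx l)) (lineR i) = u • (lineV (gPerm l.val i.val)).toV := by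
  have h := img_all l i
  simp only [imgOK, forceN_eq, forceI_eq, forceV_eq, Bool.and_eq_true] at h
  obtain ⟨⟨⟨hu, hk⟩, hinv⟩, hr⟩ := h
  obtain ⟨e, hf⟩ := withRefl_spec hr
  simp only [Bool.and_eq_true, decide_eq_true_eq] at hf
  obtain ⟨⟨f1, f2⟩, f3⟩ := hf
  have hk' : gPerm l.val i.val < 315 := Nat.le_of_ble_eq_true hk
  refine ⟨hk', Nat.eq_of_beq_eq_true hinv, _,
    (unit_spec (Nat.le_of_ble_eq_true hu : bitsAt (gImg l.val i.val) 0 127 < 120)).2.2, ?_⟩
  have hl := line_ok ⟨_, hk'⟩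
  simp only [Bool.and_eq_true] at hl
  rw [← MV.toV_smul (unit_spec (Nat.le_of_ble_eq_true hu :
    bitsAt (gImg l.val i.val) 0 127 < 120)).1 (MV.inL_iff.mp hl.1).1]
  exact e.symm.trans (congrArg MV.toV (MV.ext' f1.symm f2.symm f3.symm))

/-- A generator on the lines. -/
def gP (l : Fin 5) : Equiv.Perm (Fin 315) :=
  Function.Involutive.toPerm (fun i => ⟨gPerm l.val i.val, (img_spec l i).1⟩)
    (fun i => Fin.ext (img_spec l i).2.1)

theorem moves_gen (l : Fin 5) : Moves (gR l) (gP l) := fun k => by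
  obtain ⟨-, -, u, hu, he⟩ := img_spec l k
  exact conj_Rv (lin_Rv _) hu he

/-- The image group on the lines. -/
def G315 : Subgroup (Equiv.Perm (Fin 315)) := Subgroup.closure (Set.range gP)

/-- The group generated by the chosen reflections. -/
noncomputable def S5 : Subgroup (Equiv.Perm icoLeech) := Subgroup.closure (Set.range gR)

theorem S5_le : S5 ≤ twoJ2 := by
  rw [S5, Subgroup.closure_le]
  rintro _ ⟨l, rfl⟩
  exact Rv_mem _

theorem moves_of_mem {g : Equiv.Perm icoLeech} (hg : g ∈ S5) : ∃ p ∈ G315, Moves g p := by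
  induction hg using Subgroup.closure_induction with
  | mem x hx =>
    obtain ⟨l, rfl⟩ := hx
    exact ⟨gP l, Subgroup.subset_closure ⟨l, rfl⟩, moves_gen l⟩
  | one => exact ⟨1, one_mem _, moves_one⟩
  | mul x y _ _ hx hy =>
    obtain ⟨p, hp, hp'⟩ := hx
    obtain ⟨q, hq, hq'⟩ := hy
    exact ⟨p * q, mul_mem hp hq, hp'.mul hq'⟩
  | inv x _ hx =>
    obtain ⟨p, hp, hp'⟩ := hx
    exact ⟨p⁻¹, inv_mem hp, hp'.inv⟩

/-- The root line. -/
def rootF : Fin 315 := ⟨root, by decide⟩

theorem reach (i : Fin 315) : ∃ g ∈ S5, ∃ p, Moves g p ∧ p rootF = i := by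
  suffices H : ∀ d, ∀ i : Fin 315, Nat.shiftRight (Data.tree.getD i.val 0) 12 = d →
      ∃ g ∈ S5, ∃ p, Moves g p ∧ p rootF = i from H _ i rfl
  intro d
  induction d using Nat.strong_induction_on with
  | _ d ih =>
    intro i hd
    have h := tree_ok i
    simp only [treeOK, forceN_eq] at h
    rcases eq_or_ne i.val root with hi | hi
    · exact ⟨1, one_mem _, 1, moves_one, Fin.ext hi.symm⟩
    · cases hb : Nat.beq i.val root with
      | true => exact absurd (Nat.eq_of_beq_eq_true hb) hi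
      | false =>
        rw [hb, cond_false] at h
        simp only [Bool.and_eq_true] at h
        obtain ⟨⟨⟨hl, hp⟩, hg⟩, hdep⟩ := h
        have hp' : bitsAt (Data.tree.getD i.val 0) 3 511 < 315 := Nat.le_of_ble_eq_true hp
        have hl' : bitsAt (Data.tree.getD i.val 0) 0 7 < 5 := Nat.le_of_ble_eq_true hl
        obtain ⟨g, hg', q, hq, hqr⟩ := ih _ (hd ▸ Nat.le_of_ble_eq_true hdep) ⟨_, hp'⟩ rfl
        refine ⟨gR ⟨_, hl'⟩ * g, mul_mem (Subgroup.subset_closure ⟨_, rfl⟩) hg', gP ⟨_, hl'⟩ * q,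
          (moves_gen _).mul hq, ?_⟩
        rw [Equiv.Perm.mul_apply, hqr]
        exact Fin.ext (Nat.eq_of_beq_eq_true hg)

theorem Rv_root_ne {k : Fin 315} (hk : Rv rootF = Rv k) : k = rootF := by
  by_contra hne
  have h := of_blocks sep_all k
  have hb : Nat.beq k.val root = false := by
    cases hb : Nat.beq k.val root
    · rfl
    · exact absurd (Fin.ext (Nat.eq_of_beq_eq_true hb)) hne
  simp only [sepOK, hb, cond_false, forceV_eq] at h
  obtain ⟨e, hf⟩ := withRefl_spec h
  have h1 := congrArg (fun f : Equiv.Perm icoLeech => ((f (linePt rootF) : icoLeech) :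
    Fin 3 → ℍ[ℝ])) hk
  simp only [Rv_apply, linePt] at h1
  have h2 : qrefl (lineR rootF) (lineR rootF) = -lineR rootF := by
    rw [qrefl_eq, (lineR_spec rootF).2]
    funext t
    have e2 : ((1 / 2 : ℝ) • (4 : ℍ[ℝ])) = 1 + 1 := by
      rw [← mul_one ((1 / 2 : ℝ) • (4 : ℍ[ℝ])), smul_mul_assoc, mul_one]
      have := half_mul_four (1 : ℍ[ℝ])
      rwa [smul_mul_assoc, one_mul] at this
    rw [Pi.sub_apply, Pi.smul_apply, smul_eq_mul, e2, add_mul, one_mul, Pi.neg_apply]
    abel
  rw [h2] at h1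
  have h3 : (reflM (lineV k.val) (lineV root)).toV = -(lineV root).toV := e.trans h1.symm
  have e3 : -(lineV root).toV =
      (⟨(lineV root).x.neg, (lineV root).y.neg, (lineV root).z.neg⟩ : MV).toV := by
    funext t; fin_cases t <;> simp
  rw [e3] at h3
  rw [MV.toV_injective h3] at hf
  simp at hf

theorem Rv_injective : Function.Injective Rv := by
  intro i k h
  obtain ⟨g, -, p, hp, hpr⟩ := reach i
  have : Rv rootF = Rv (p⁻¹ k) := by
    have h1 := hp.inv i
    have h2 := hp.inv k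
    rw [h, h2] at h1
    rw [h1, ← hpr]
    simp
  have h' := Rv_root_ne this
  rw [Equiv.Perm.inv_eq_iff_eq] at h'
  rw [h', hpr]

theorem S5_eq : S5 = twoJ2 := by
  refine le_antisymm S5_le ?_
  rw [twoJ2_eq, Subgroup.closure_le]
  rintro _ ⟨i, rfl⟩
  obtain ⟨g, hg, p, hp, hpr⟩ := reach i
  rw [← hpr, ← hp]
  exact mul_mem (mul_mem hg (Subgroup.subset_closure ⟨0, rfl⟩)) (inv_mem hg)

theorem exists_moves (g : twoJ2) : ∃ p ∈ G315, Moves g.1 p :=
  moves_of_mem (S5_eq.symm ▸ g.2)

theorem Moves.unique {g : Equiv.Perm icoLeech} {p q : Equiv.Perm (Fin 315)} (hp : Moves g p)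
    (hq : Moves g q) : p = q :=
  Equiv.ext fun k => Rv_injective ((hp k).symm.trans (hq k))

/-- The action on the reflections. -/
noncomputable def act : twoJ2 →* G315 :=
  MonoidHom.mk' (fun g => ⟨(exists_moves g).choose, (exists_moves g).choose_spec.1⟩) fun a b =>
    Subtype.ext ((exists_moves (a * b)).choose_spec.2.unique
      ((exists_moves a).choose_spec.2.mul (exists_moves b).choose_spec.2))

theorem act_spec (g : twoJ2) : Moves g.1 (act g).1 := (exists_moves g).choose_spec.2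

/-- A generator in the double cover. -/
noncomputable def gT (l : Fin 5) : twoJ2 := ⟨gR l, Rv_mem _⟩

theorem act_gT (l : Fin 5) : (act (gT l)).1 = gP l := (act_spec _).unique (moves_gen l)

theorem act_surjective : Function.Surjective act := by
  rintro ⟨p, hp⟩
  induction hp using Subgroup.closure_induction with
  | mem x hx => obtain ⟨l, rfl⟩ := hx; exact ⟨gT l, Subtype.ext (act_gT l)⟩
  | one => exact ⟨1, map_one act⟩
  | mul x y _ _ hx hy =>
    obtain ⟨a, ha⟩ := hx
    obtain ⟨b, hb⟩ := hy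
    exact ⟨a * b, by rw [map_mul, ha, hb]; rfl⟩
  | inv x _ hx =>
    obtain ⟨a, ha⟩ := hx
    exact ⟨a⁻¹, by rw [map_inv, ha]; rfl⟩

theorem transitive (i k : Fin 315) : ∃ g ∈ twoJ2, g * Rv i * g⁻¹ = Rv k := by
  obtain ⟨a, ha, p, hp, hpr⟩ := reach i
  obtain ⟨b, hb, q, hq, hqr⟩ := reach k
  refine ⟨b * a⁻¹, mul_mem (S5_le hb) (inv_mem (S5_le ha)), ?_⟩
  rw [hq.mul hp.inv i, Equiv.Perm.mul_apply, ← hpr, Equiv.Perm.coe_inv, Equiv.symm_apply_apply,
    hqr]

/-- Each component of a quaternion triple along one axis. -/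
noncomputable def axis (t : Fin 3) : Fin 3 → ℍ[ℝ] := Pi.single t 1

/-- twice a basis vector, negated -/
def negTwo : Ico := neg two

theorem commutant_check : ∀ u : Fin 120,
    mulI (U u.val) (mulI (conj (lineV 235).x) (lineV 235).y) =
      mulI (mulI (conj (lineV 235).x) (lineV 235).y) (U u.val) →
    mulI (U u.val) (mulI (conj (lineV 236).x) (lineV 236).y) =
      mulI (mulI (conj (lineV 236).x) (lineV 236).y) (U u.val) →
    U u.val = one ∨ U u.val = neg one := by decide +kernel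

end CfsgLib.J2
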