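/-! A spanning tree of the lines. -/

set_option autoImplicit false
set_option maxRecDepth 100000

namespace CfsgLib.J2.Data

/-- letter, parent, depth -/
def tree : List Nat := [26827, 8, 26697, 18834, 18417, 22569, 22497, 22481, 22500, 26452, 21578, 21994,
  21601, 20596, 18113, 22915, 8408, 22650, 20874, 22361, 22626, 25722, 20516, 22795,
  21308, 25730, 26540, 4108, 25148, 16960, 21907, 22299, 21248, 21184, 14658, 18217,
  18723, 22913, 18123, 22083, 22122, 22026, 20786, 14715, 10601, 20952, 26473, 16908,
  21432, 16872, 21875, 21577, 18419, 17356, 21360, 22068, 20955, 18370, 26698, 16732,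
  21528, 12643, 18353, 20856, 21576, 13602, 26778, 14428, 18833, 17384, 26026, 20762,
  14659, 25842, 18772, 22410, 26619, 10345, 20904, 20907, 26652, 24892, 18226, 24836,
  13138, 18836, 25089, 22193, 17402, 21579, 20979, 20873, 18844, 22498, 18593, 16656,
  18354, 21553, 22228, 24828, 25680, 22395, 18780, 17858, 22370, 22020, 10604, 21680,
  22195, 20905, 18371, 18777, 24755, 22571, 22628, 24980, 27083, 26570, 22698, 17514,
  21219, 14713, 18137, 24680, 25201, 13139, 25384, 14425, 25644, 17859, 25520, 18420,
  24875, 22409, 18355, 25082, 18771, 17404, 22050, 26956, 18594, 14785, 10346, 21652,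
  21216, 17056, 16873, 21234, 26658, 17939, 18068, 16920, 22082, 18114, 26449, 22115,
  26298, 21136, 22724, 21072, 13136, 26028, 26826, 26282, 10603, 20954, 17761, 18722,
  25962, 22372, 22107, 25450, 12644, 22121, 17057, 18067, 25849, 18242, 17516, 18121,
  22226, 22179, 18139, 21880, 13896, 26227, 22106, 22105, 22048, 18243, 8410, 21073,
  18225, 17760, 13808, 20900, 18219, 16657, 17386, 21904, 16921, 10348, 21876, 16876,
  18136, 17763, 21217, 25964, 21900, 26106, 13809, 24987, 17762, 22104, 18216, 22916,
  13899, 13898, 18224, 12908, 25276, 25729, 17857, 26192, 21372, 21897, 21915, 17937,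
  22049, 14716, 13811, 18112, 13897, 16961, 21811, 16922, 17667, 20906, 26568, 17665,
  24907, 18352, 21514, 22368, 21554, 21458, 13604, 25203, 13137, 20763, 17355, 21243,
  17059, 21650, 12906, 22348, 21682, 17354, 29476, 21307, 22060, 18416, 21708, 20939,
  22700, 22480, 21364, 10344, 17385, 4107, 21570, 18595, 16905, 21218, 18592, 22659,
  13428, 16729, 18228, 21361, 16874, 21033, 25818, 26872, 21529, 17940, 25412, 21251,
  26828, 17666, 25753, 21036, 12417, 25643, 22300, 21572, 8409, 21026, 13425, 14786,
  21028, 4106, 24761, 10600, 18842, 18776, 14784, 13601, 25083, 25297, 24642, 25289,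
  8411, 22912, 20515]

end CfsgLib.J2.Data
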