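import Cfsg.Agent.J2.Enum

set_option autoImplicit false
set_option maxRecDepth 100000

namespace CfsgLib.J2

theorem cand0 : candRow (vals.map valRow) (vals.getD 0 ⟨0, 0⟩) =
    (Data.tabs.getD 0 []).map low := by decide +kernel

theorem rec0 : (Data.tabs.getD 0 []).all recOK = true := by decide +kernel

theorem cand4 : candRow (vals.map valRow) (vals.getD 4 ⟨0, 0⟩) =
    (Data.tabs.getD 4 []).map low := by decide +kernel

theorem rec4 : (Data.tabs.getD 4 []).all recOK = true := by decide +kernel

theorem cand8 : candRow (vals.map valRow) (vals.getD 8 ⟨0, 0⟩) =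
    (Data.tabs.getD 8 []).map low := by decide +kernel

theorem rec8 : (Data.tabs.getD 8 []).all recOK = true := by decide +kernel

theorem cand12 : candRow (vals.map valRow) (vals.getD 12 ⟨0, 0⟩) =
    (Data.tabs.getD 12 []).map low := by decide +kernel

theorem rec12 : (Data.tabs.getD 12 []).all recOK = true := by decide +kernel

theorem cand16 : candRow (vals.map valRow) (vals.getD 16 ⟨0, 0⟩) =
    (Data.tabs.getD 16 []).map low := by decide +kernel

theorem rec16 : (Data.tabs.getD 16 []).all recOK = true := by decide +kernel

theorem cand20 : candRow (vals.map valRow) (vals.getD 20 ⟨0, 0⟩) =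
    (Data.tabs.getD 20 []).map low := by decide +kernel

theorem rec20 : (Data.tabs.getD 20 []).all recOK = true := by decide +kernel

theorem cand24 : candRow (vals.map valRow) (vals.getD 24 ⟨0, 0⟩) =
    (Data.tabs.getD 24 []).map low := by decide +kernel

theorem rec24 : (Data.tabs.getD 24 []).all recOK = true := by decide +kernel

theorem cand28 : candRow (vals.map valRow) (vals.getD 28 ⟨0, 0⟩) =
    (Data.tabs.getD 28 []).map low := by decide +kernel

theorem rec28 : (Data.tabs.getD 28 []).all recOK = true := by decide +kernel

end CfsgLib.J2
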