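import Cfsg.Agent.J2.Enum

set_option autoImplicit false
set_option maxRecDepth 100000

namespace CfsgLib.J2

theorem cand1 : candRow (vals.map valRow) (vals.getD 1 ⟨0, 0⟩) =
    (Data.tabs.getD 1 []).map low := by decide +kernel

theorem rec1 : (Data.tabs.getD 1 []).all recOK = true := by decide +kernel

theorem cand5 : candRow (vals.map valRow) (vals.getD 5 ⟨0, 0⟩) =
    (Data.tabs.getD 5 []).map low := by decide +kernel

theorem rec5 : (Data.tabs.getD 5 []).all recOK = true := by decide +kernel

theorem cand9 : candRow (vals.map valRow) (vals.getD 9 ⟨0, 0⟩) =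
    (Data.tabs.getD 9 []).map low := by decide +kernel

theorem rec9 : (Data.tabs.getD 9 []).all recOK = true := by decide +kernel

theorem cand13 : candRow (vals.map valRow) (vals.getD 13 ⟨0, 0⟩) =
    (Data.tabs.getD 13 []).map low := by decide +kernel

theorem rec13 : (Data.tabs.getD 13 []).all recOK = true := by decide +kernel

theorem cand17 : candRow (vals.map valRow) (vals.getD 17 ⟨0, 0⟩) =
    (Data.tabs.getD 17 []).map low := by decide +kernel

theorem rec17 : (Data.tabs.getD 17 []).all recOK = true := by decide +kernel

theorem cand21 : candRow (vals.map valRow) (vals.getD 21 ⟨0, 0⟩) =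
    (Data.tabs.getD 21 []).map low := by decide +kernel

theorem rec21 : (Data.tabs.getD 21 []).all recOK = true := by decide +kernel

theorem cand25 : candRow (vals.map valRow) (vals.getD 25 ⟨0, 0⟩) =
    (Data.tabs.getD 25 []).map low := by decide +kernel

theorem rec25 : (Data.tabs.getD 25 []).all recOK = true := by decide +kernel

theorem cand29 : candRow (vals.map valRow) (vals.getD 29 ⟨0, 0⟩) =
    (Data.tabs.getD 29 []).map low := by decide +kernel

theorem rec29 : (Data.tabs.getD 29 []).all recOK = true := by decide +kernel

end CfsgLib.J2
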