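import Cfsg.Agent.J2.Enum

set_option autoImplicit false
set_option maxRecDepth 100000

namespace CfsgLib.J2

theorem cand2 : candRow (vals.map valRow) (vals.getD 2 ⟨0, 0⟩) =
    (Data.tabs.getD 2 []).map low := by decide +kernel

theorem rec2 : (Data.tabs.getD 2 []).all recOK = true := by decide +kernel

theorem cand6 : candRow (vals.map valRow) (vals.getD 6 ⟨0, 0⟩) =
    (Data.tabs.getD 6 []).map low := by decide +kernel

theorem rec6 : (Data.tabs.getD 6 []).all recOK = true := by decide +kernel

theorem cand10 : candRow (vals.map valRow) (vals.getD 10 ⟨0, 0⟩) =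
    (Data.tabs.getD 10 []).map low := by decide +kernel

theorem rec10 : (Data.tabs.getD 10 []).all recOK = true := by decide +kernel

theorem cand14 : candRow (vals.map valRow) (vals.getD 14 ⟨0, 0⟩) =
    (Data.tabs.getD 14 []).map low := by decide +kernel

theorem rec14 : (Data.tabs.getD 14 []).all recOK = true := by decide +kernel

theorem cand18 : candRow (vals.map valRow) (vals.getD 18 ⟨0, 0⟩) =
    (Data.tabs.getD 18 []).map low := by decide +kernel

theorem rec18 : (Data.tabs.getD 18 []).all recOK = true := by decide +kernel

theorem cand22 : candRow (vals.map valRow) (vals.getD 22 ⟨0, 0⟩) =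
    (Data.tabs.getD 22 []).map low := by decide +kernel

theorem rec22 : (Data.tabs.getD 22 []).all recOK = true := by decide +kernel

theorem cand26 : candRow (vals.map valRow) (vals.getD 26 ⟨0, 0⟩) =
    (Data.tabs.getD 26 []).map low := by decide +kernel

theorem rec26 : (Data.tabs.getD 26 []).all recOK = true := by decide +kernel

theorem cand30 : candRow (vals.map valRow) (vals.getD 30 ⟨0, 0⟩) =
    (Data.tabs.getD 30 []).map low := by decide +kernel

theorem rec30 : (Data.tabs.getD 30 []).all recOK = true := by decide +kernel

end CfsgLib.J2
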