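import Cfsg.Agent.J2.Enum

set_option autoImplicit false
set_option maxRecDepth 100000

namespace CfsgLib.J2

theorem cand3 : candRow (vals.map valRow) (vals.getD 3 ⟨0, 0⟩) =
    (Data.tabs.getD 3 []).map low := by decide +kernel

theorem rec3 : (Data.tabs.getD 3 []).all recOK = true := by decide +kernel

theorem cand7 : candRow (vals.map valRow) (vals.getD 7 ⟨0, 0⟩) =
    (Data.tabs.getD 7 []).map low := by decide +kernel

theorem rec7 : (Data.tabs.getD 7 []).all recOK = true := by decide +kernel

theorem cand11 : candRow (vals.map valRow) (vals.getD 11 ⟨0, 0⟩) =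
    (Data.tabs.getD 11 []).map low := by decide +kernel

theorem rec11 : (Data.tabs.getD 11 []).all recOK = true := by decide +kernel

theorem cand15 : candRow (vals.map valRow) (vals.getD 15 ⟨0, 0⟩) =
    (Data.tabs.getD 15 []).map low := by decide +kernel

theorem rec15 : (Data.tabs.getD 15 []).all recOK = true := by decide +kernel

theorem cand19 : candRow (vals.map valRow) (vals.getD 19 ⟨0, 0⟩) =
    (Data.tabs.getD 19 []).map low := by decide +kernel

theorem rec19 : (Data.tabs.getD 19 []).all recOK = true := by decide +kernel

theorem cand23 : candRow (vals.map valRow) (vals.getD 23 ⟨0, 0⟩) =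
    (Data.tabs.getD 23 []).map low := by decide +kernel

theorem rec23 : (Data.tabs.getD 23 []).all recOK = true := by decide +kernel

theorem cand27 : candRow (vals.map valRow) (vals.getD 27 ⟨0, 0⟩) =
    (Data.tabs.getD 27 []).map low := by decide +kernel

theorem rec27 : (Data.tabs.getD 27 []).all recOK = true := by decide +kernel

end CfsgLib.J2
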