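import Cfsg.Agent.J2.Hits

set_option autoImplicit false
set_option maxRecDepth 100000

namespace CfsgLib.J2

theorem hit0 : repOK 0 = true := by decide +kernel

theorem hit4 : repOK 4 = true := by decide +kernel

theorem hit8 : repOK 8 = true := by decide +kernel

theorem hit12 : repOK 12 = true := by decide +kernel

theorem hit16 : repOK 16 = true := by decide +kernel

theorem hit20 : repOK 20 = true := by decide +kernel

theorem hit24 : repOK 24 = true := by decide +kernel

theorem hit28 : repOK 28 = true := by decide +kernel

theorem hit32 : repOK 32 = true := by decide +kernel

theorem hit36 : repOK 36 = true := by decide +kernel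

theorem hit40 : repOK 40 = true := by decide +kernel

theorem hit44 : repOK 44 = true := by decide +kernel

theorem hit48 : repOK 48 = true := by decide +kernel

end CfsgLib.J2
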