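import Cfsg.Agent.J2.Hits

set_option autoImplicit false
set_option maxRecDepth 100000

namespace CfsgLib.J2

theorem hit1 : repOK 1 = true := by decide +kernel

theorem hit5 : repOK 5 = true := by decide +kernel

theorem hit9 : repOK 9 = true := by decide +kernel

theorem hit13 : repOK 13 = true := by decide +kernel

theorem hit17 : repOK 17 = true := by decide +kernel

theorem hit21 : repOK 21 = true := by decide +kernel

theorem hit25 : repOK 25 = true := by decide +kernel

theorem hit29 : repOK 29 = true := by decide +kernel

theorem hit33 : repOK 33 = true := by decide +kernel

theorem hit37 : repOK 37 = true := by decide +kernel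

theorem hit41 : repOK 41 = true := by decide +kernel

theorem hit45 : repOK 45 = true := by decide +kernel

theorem hit49 : repOK 49 = true := by decide +kernel

end CfsgLib.J2
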