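import Cfsg.Agent.J2.Hits

set_option autoImplicit false
set_option maxRecDepth 100000

namespace CfsgLib.J2

theorem hit2 : repOK 2 = true := by decide +kernel

theorem hit6 : repOK 6 = true := by decide +kernel

theorem hit10 : repOK 10 = true := by decide +kernel

theorem hit14 : repOK 14 = true := by decide +kernel

theorem hit18 : repOK 18 = true := by decide +kernel

theorem hit22 : repOK 22 = true := by decide +kernel

theorem hit26 : repOK 26 = true := by decide +kernel

theorem hit30 : repOK 30 = true := by decide +kernel

theorem hit34 : repOK 34 = true := by decide +kernel

theorem hit38 : repOK 38 = true := by decide +kernel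

theorem hit42 : repOK 42 = true := by decide +kernel

theorem hit46 : repOK 46 = true := by decide +kernel

theorem hit50 : repOK 50 = true := by decide +kernel

end CfsgLib.J2
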