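import Cfsg.Agent.J2.Hits

set_option autoImplicit false
set_option maxRecDepth 100000

namespace CfsgLib.J2

theorem hit3 : repOK 3 = true := by decide +kernel

theorem hit7 : repOK 7 = true := by decide +kernel

theorem hit11 : repOK 11 = true := by decide +kernel

theorem hit15 : repOK 15 = true := by decide +kernel

theorem hit19 : repOK 19 = true := by decide +kernel

theorem hit23 : repOK 23 = true := by decide +kernel

theorem hit27 : repOK 27 = true := by decide +kernel

theorem hit31 : repOK 31 = true := by decide +kernel

theorem hit35 : repOK 35 = true := by decide +kernel

theorem hit39 : repOK 39 = true := by decide +kernel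

theorem hit43 : repOK 43 = true := by decide +kernel

theorem hit47 : repOK 47 = true := by decide +kernel

theorem hit51 : repOK 51 = true := by decide +kernel

end CfsgLib.J2
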