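import Cfsg.Agent.J2.Main
import Cfsg.Agent.J2.Perm.U33

/-! The subgroup of index 100 in the Hall–Janko group. -/

set_option autoImplicit false

namespace CfsgLib.J2

open Cfsg.Spor

theorem ncard_orbit_comap {A B : Type*} [Group A] [Group B] (e : A ≃* B) (K : Subgroup B) (b : B) :
    (MulAction.orbit (K.comap e.toMonoidHom)
      (QuotientGroup.mk (e.symm b) : A ⧸ K.comap e.toMonoidHom)).ncard =
      (MulAction.orbit K (QuotientGroup.mk b : B ⧸ K)).ncard := by
  let f : A ⧸ K.comap e.toMonoidHom → B ⧸ K := Quotient.lift (fun a => (QuotientGroup.mk (e a) : B ⧸ K))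
    (fun x y hxy => by
      have h : x⁻¹ * y ∈ K.comap e.toMonoidHom := QuotientGroup.leftRel_apply.mp hxy
      refine QuotientGroup.eq.mpr ?_
      rw [← map_inv, ← map_mul]; exact h)
  have hf : Function.Injective f := by
    intro x y
    induction x using QuotientGroup.induction_on
    induction y using QuotientGroup.induction_on
    rename_i x y
    intro h
    refine QuotientGroup.eq.mpr ?_
    have h' : (e x)⁻¹ * e y ∈ K := QuotientGroup.eq.mp h
    rwa [← map_inv, ← map_mul] at h'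
  rw [← Set.ncard_image_of_injective _ hf]
  congr 1
  ext y
  constructor
  · rintro ⟨_, ⟨⟨a, ha⟩, rfl⟩, rfl⟩
    refine ⟨⟨e a, ha⟩, ?_⟩
    show (QuotientGroup.mk (e a * b) : B ⧸ K) = QuotientGroup.mk (e (a * e.symm b))
    rw [map_mul, e.apply_symm_apply]
  · rintro ⟨⟨k, hk⟩, rfl⟩
    refine ⟨_, ⟨⟨e.symm k, by show e (e.symm k) ∈ K; rwa [e.apply_symm_apply]⟩, rfl⟩, ?_⟩
    show (QuotientGroup.mk (e (e.symm k * e.symm b)) : B ⧸ K) = QuotientGroup.mk (k * b)
    rw [map_mul, e.apply_symm_apply, e.apply_symm_apply]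

theorem index100 : ∃ H : Subgroup J2, H.index = 100 ∧
    (∃ (F : Type) (_ : Field F) (_ : Fintype F), Fintype.card F = 9 ∧
      Nonempty (H ≃* Cfsg.PSU 3 F 3)) ∧
    ∃ c₁ c₂ : J2 ⧸ H, (MulAction.orbit H c₁).ncard = 36 ∧ (MulAction.orbit H c₂).ncard = 63 := by
  refine ⟨Perm.H.comap eJ.toMonoidHom, ?_, ⟨Perm.F9, inferInstance, inferInstance, Perm.F9.card, ?_⟩, ?_⟩
  · rw [Subgroup.index_comap_of_surjective _ eJ.surjective, Perm.index_and_eq.1]
  · obtain ⟨θ⟩ := Perm.nonempty_psu
    exact ⟨({ toFun := fun g => ⟨eJ g.1, g.2⟩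
              invFun := fun g => ⟨eJ.symm g.1, by
                show eJ (eJ.symm g.1) ∈ Perm.H
                rw [eJ.apply_symm_apply]; exact g.2⟩
              left_inv := fun g => Subtype.ext (eJ.symm_apply_apply _)
              right_inv := fun g => Subtype.ext (eJ.apply_symm_apply _)
              map_mul' := fun a b => Subtype.ext (map_mul eJ _ _) } :
        Perm.H.comap eJ.toMonoidHom ≃* Perm.H).trans θ⟩
  · obtain ⟨q₁, q₂, h1, h2⟩ := Perm.orbit_sizes
    induction q₁ using QuotientGroup.induction_on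
    induction q₂ using QuotientGroup.induction_on
    rename_i a b
    exact ⟨QuotientGroup.mk (eJ.symm a), QuotientGroup.mk (eJ.symm b),
      (ncard_orbit_comap eJ Perm.H a).trans h1, (ncard_orbit_comap eJ Perm.H b).trans h2⟩

end CfsgLib.J2
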