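import Cfsg.Agent.J2.Ico
import Cfsg.Agent.J2.Data

/-! All icosians of small norm, and the kernel checks on the minimal vectors. -/

set_option autoImplicit false
set_option maxRecDepth 100000

namespace CfsgLib.J2

open Ico

/-- sum of the squares of the components: four times the norm -/
def Ico.nrm (x : Ico) : Zt :=
  (((x.c0.mul x.c0).add (x.c1.mul x.c1)).add (x.c2.mul x.c2)).add (x.c3.mul x.c3)

/-- the cone of sums of squares, below sixteen -/
def okP (p : Zt) : Bool :=
  decide (8 * p.b ≤ 13 * p.a) && decide (-(8 * p.b) ≤ 5 * p.a) &&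
  decide (-(8 * p.b) ≤ 13 * (16 - p.a)) && decide (8 * p.b ≤ 5 * (16 - p.a))

/-- inside the cone -/
def InCone (p : Zt) : Prop := 8 * p.b ≤ 13 * p.a ∧ -(8 * p.b) ≤ 5 * p.a

theorem inCone_sq (z : Zt) : InCone (z.mul z) := by
  simp only [InCone, Zt.mul]
  constructor
  · nlinarith [mul_self_nonneg (13 * z.a - 8 * z.b), mul_self_nonneg z.b]
  · nlinarith [mul_self_nonneg (5 * z.a + 8 * z.b), mul_self_nonneg z.b]

theorem InCone.add {p q : Zt} (hp : InCone p) (hq : InCone q) : InCone (p.add q) := by
  simp only [InCone, Zt.add] at *; omega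

theorem okP_of_split {p q : Zt} (hp : InCone p) (hq : InCone q)
    (h : p.add q = ⟨16, 0⟩) : okP p = true := by
  simp only [okP, Bool.and_eq_true, decide_eq_true_eq]
  simp only [InCone, Zt.add, Zt.mk.injEq] at *
  omega

theorem inCone_nrm (x : Ico) : InCone x.nrm :=
  (((inCone_sq _).add (inCone_sq _)).add (inCone_sq _)).add (inCone_sq _)

/-- evaluate a number first -/
noncomputable def forceN {α : Type} (n : Nat) (f : Nat → α) : α :=
  Nat.rec (motive := fun _ => α) (f 0) (fun p _ => f (Nat.succ p)) n

theorem forceN_eq {α : Type} (n : Nat) (f : Nat → α) : forceN n f = f n := by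
  cases n <;> rfl

/-- evaluate an integer first -/
noncomputable def forceZ {α : Type} (z : ℤ) (f : ℤ → α) : α :=
  Int.rec (fun n => forceN n fun n => f (Int.ofNat n))
    (fun n => forceN n fun n => f (Int.negSucc n)) z

theorem forceZ_eq {α : Type} (z : ℤ) (f : ℤ → α) : forceZ z f = f z := by
  cases z with
  | ofNat n => exact forceN_eq n fun n => f (Int.ofNat n)
  | negSucc n => exact forceN_eq n fun n => f (Int.negSucc n)

/-- evaluate a component first -/
noncomputable def forceT {α : Type} (z : Zt) (f : Zt → α) : α :=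
  forceZ z.a fun a => forceZ z.b fun b => f ⟨a, b⟩

theorem forceT_eq {α : Type} (z : Zt) (f : Zt → α) : forceT z f = f z := by
  simp [forceT, forceZ_eq]

/-- evaluate an icosian first -/
noncomputable def forceI {α : Type} (x : Ico) (f : Ico → α) : α :=
  forceT x.c0 fun a => forceT x.c1 fun b => forceT x.c2 fun c => forceT x.c3 fun d => f ⟨a, b, c, d⟩

theorem forceI_eq {α : Type} (x : Ico) (f : Ico → α) : forceI x f = f x := by
  simp [forceI, forceT_eq]

/-- `inIh`, evaluated once -/
noncomputable def inIhK (x : Ico) : Bool :=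
  forceI x fun x => forceI (mulI x hb) fun y => even y && inI (half y)

/-- `inIhb`, evaluated once -/
noncomputable def inIhbK (x : Ico) : Bool :=
  forceI x fun x => forceI (mulI x hh) fun y => even y && inI (half y)

theorem inIhK_eq (x : Ico) : inIhK x = inIh x := by simp [inIhK, forceI_eq, inIh]
theorem inIhbK_eq (x : Ico) : inIhbK x = inIhb x := by simp [inIhbK, forceI_eq, inIhb]

/-- candidate components -/
def vals : List Zt :=
  ((List.range 9).flatMap fun (a : Nat) => (List.range 9).map fun (b : Nat) =>
    (⟨(a : ℤ) - 4, (b : ℤ) - 4⟩ : Zt)).filter fun z => okP (z.mul z)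

theorem mem_vals {z : Zt} (h : okP (z.mul z) = true) : z ∈ vals := by
  have h' := h
  simp only [okP, Bool.and_eq_true, decide_eq_true_eq] at h'
  simp only [Zt.mul] at h'
  have hab : z.a * z.a + z.b * z.b ≤ 16 := by
    nlinarith [mul_self_nonneg (z.a), mul_self_nonneg (z.b)]
  have ha : -4 ≤ z.a ∧ z.a ≤ 4 := by constructor <;> nlinarith [mul_self_nonneg z.b]
  have hb : -4 ≤ z.b ∧ z.b ≤ 4 := by constructor <;> nlinarith [mul_self_nonneg z.a]
  refine List.mem_filter.mpr ⟨List.mem_flatMap.mpr ⟨(z.a + 4).toNat, ?_, ?_⟩, h⟩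
  · rw [List.mem_range]; omega
  · refine List.mem_map.mpr ⟨(z.b + 4).toNat, by rw [List.mem_range]; omega, ?_⟩
    obtain ⟨a, b⟩ := z
    simp only [Zt.mk.injEq] at *
    omega

/-- the code of a component -/
def zcode (z : Zt) : Nat := (z.a + 8).toNat + 16 * (z.b + 8).toNat

/-- the weight of a sum of squares: two nonnegative fields -/
def weight (p : Zt) : Nat := (13 * p.a - 8 * p.b).toNat + 2 ^ 20 * (5 * p.a + 8 * p.b).toNat

/-- packed rows for the search: code, weight, parity class -/
def valRow (z : Zt) : Nat × Nat × Nat :=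
  (zcode z, weight (z.mul z), (z.a % 2).toNat + 2 * (z.b % 2).toNat)

/-- the weight is small enough -/
noncomputable def wOK (w : Nat) : Bool :=
  cond (Nat.ble (Nat.land w 1048575) 208) (Nat.ble (Nat.shiftRight w 20) 80) false

theorem wOK_weight {p : Zt} (hc : InCone p) (h : okP p = true) : wOK (weight p) = true := by
  simp only [okP, Bool.and_eq_true, decide_eq_true_eq] at h
  simp only [InCone] at hc
  have e : Nat.land (weight p) 1048575 = weight p % 2 ^ 20 :=
    Nat.and_two_pow_sub_one_eq_mod (weight p) 20
  have e' : Nat.shiftRight (weight p) 20 = weight p / 2 ^ 20 := Nat.shiftRight_eq_div_pow _ _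
  have hx : (13 * p.a - 8 * p.b).toNat ≤ 208 := by omega
  have hy : (5 * p.a + 8 * p.b).toNat ≤ 80 := by omega
  rw [wOK, e, e', weight]
  generalize (13 * p.a - 8 * p.b).toNat = X at hx ⊢
  generalize (5 * p.a + 8 * p.b).toNat = Y at hy ⊢
  rw [show Nat.ble ((X + 2 ^ 20 * Y) % 2 ^ 20) 208 = true from Nat.ble_eq_true_of_le (by omega),
    show Nat.ble ((X + 2 ^ 20 * Y) / 2 ^ 20) 80 = true from Nat.ble_eq_true_of_le (by omega)]
  rfl

theorem weight_add {p q : Zt} (hp : InCone p) (hq : InCone q) :
    weight (p.add q) = weight p + weight q := by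
  simp only [InCone] at hp hq
  simp only [weight, Zt.add]
  omega

/-- parity needed in the third component -/
def need2 (c0 c1 : Zt) : Nat :=
  ((c0.b + c1.a + c1.b) % 2).toNat + 2 * ((c0.a + c0.b + c1.a) % 2).toNat
/-- parity needed in the fourth component -/
def need3 (c0 c1 : Zt) : Nat :=
  ((c0.a + c0.b + c1.b) % 2).toNat + 2 * ((c0.a + c1.a + c1.b) % 2).toNat

/-- apply to each row of a parity class within the weight -/
noncomputable def rowsFor (rows : List (Nat × Nat × Nat)) (p w : Nat)
    (f : Nat → Nat → List Nat) : List Nat :=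
  List.rec [] (fun r _ ih => cond (Nat.beq r.2.2 p)
    (forceN (Nat.add w r.2.1) fun w' => cond (wOK w') (f r.1 w' ++ ih) ih) ih) rows

theorem mem_rowsFor {rows : List (Nat × Nat × Nat)} {p w : Nat} {f : Nat → Nat → List Nat}
    {r : Nat × Nat × Nat} {y : Nat} (hr : r ∈ rows) (hp : r.2.2 = p)
    (hw : wOK (w + r.2.1) = true) (hy : y ∈ f r.1 (w + r.2.1)) : y ∈ rowsFor rows p w f := by
  induction rows with
  | nil => simp at hr
  | cons a t ih =>
    show y ∈ cond (Nat.beq a.2.2 p) (forceN (Nat.add w a.2.1) fun w' =>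
      cond (wOK w') (f a.1 w' ++ rowsFor t p w f) (rowsFor t p w f)) (rowsFor t p w f)
    rw [forceN_eq]
    rcases List.mem_cons.mp hr with rfl | hr
    · rw [show Nat.beq r.2.2 p = true from hp ▸ Nat.beq_refl _, cond_true,
        show wOK (Nat.add w r.2.1) = true from hw, cond_true]
      exact List.mem_append_left _ hy
    · have := ih hr
      cases Nat.beq a.2.2 p <;> cases wOK (Nat.add w a.2.1) <;> simp [this]

/-- the codes of the candidates with given first two components -/
noncomputable def candAt (rows : List (Nat × Nat × Nat)) (w0 code n2 n3 : Nat) : List Nat :=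
  rowsFor rows n2 w0 fun x w => rowsFor rows n3 w fun y _ => [code + 65536 * x + 16777216 * y]

/-- all candidates with given first component -/
noncomputable def candRow (rows : List (Nat × Nat × Nat)) (c0 : Zt) : List Nat :=
  vals.flatMap fun c1 => forceN (weight (c0.mul c0) + weight (c1.mul c1)) fun w =>
    forceN (zcode c0 + 256 * zcode c1) fun code => forceN (need2 c0 c1) fun a =>
      forceN (need3 c0 c1) fun b => cond (wOK w) (candAt rows w code a b) []

/-- a field of a packed number -/
def bitsAt (n s m : Nat) : Nat := Nat.land (Nat.shiftRight n s) m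

/-- decode a component -/
def decZ (n s : Nat) : Zt :=
  ⟨(bitsAt n s 15 : ℤ) - 8, (bitsAt n (s + 4) 15 : ℤ) - 8⟩

/-- decode an icosian -/
def decI (n : Nat) : Ico := ⟨decZ n 0, decZ n 8, decZ n 16, decZ n 24⟩

/-- first class -/
def hcl (n : Nat) : Nat := bitsAt n 32 15
/-- second class -/
def bcl (n : Nat) : Nat := bitsAt n 36 15

/-- the code inside a record -/
def low (n : Nat) : Nat := Nat.land n 4294967295

/-- a unit -/
def U (i : Nat) : Ico := decI (Data.units.getD i 0)
/-- an orbit representative -/
def rep (j : Nat) : Ico := decI (Data.reps.getD j 0)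
/-- a class representative -/
def rH (h : Nat) : Ico := decI (Data.rh.getD h 0)
/-- a class representative -/
def rB (h : Nat) : Ico := decI (Data.rb.getD h 0)

/-- one record is right -/
noncomputable def recOK (n : Nat) : Bool :=
  forceN n fun n => forceI (decI n) fun x => inI x && inIhK (x.sub (rH (hcl n))) &&
    inIhbK (x.sub (rB (bcl n))) && Nat.blt (bitsAt n 40 127) 120 && Nat.blt (bitsAt n 47 63) 52 &&
    forceI (U (bitsAt n 40 127)) fun u => forceI (rep (bitsAt n 47 63)) fun r =>
      decide (mulI u r = x)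

end CfsgLib.J2
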