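import Cfsg.Agent.J2.Main
import Cfsg.Agent.J2.Perm.Cent
import Cfsg.Agent.HJT.FusionSimple

/-! The 2-fusion system of the Hall–Janko group: certificates. -/

set_option autoImplicit false
set_option maxRecDepth 100000
set_option linter.style.haveILetI false

namespace CfsgLib.J2.Perm

open CfsgLib.Coset

theorem ev_conj_word (u : List Nat) (l : Nat) :
    ev Lp (u ++ [l] ++ u.reverse) = ev Lp u * fl Lp l * (ev Lp u)⁻¹ := by
  simp [ev_append, ev_reverse, mul_assoc]

/-- Conjugating words for the reflections in the normal subgroup. -/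
def reflWords : List (List Nat) := [] :: altWords.map (fun a => a ++ [2, 1, 0, 2])

/-- The indices of the reflections in the normal subgroup. -/
noncomputable def reflIdx : List Nat :=
  (List.range 32).filter fun t => reflWords.any fun u =>
    sameW (u ++ [0] ++ u.reverse) (qWords.getD t [])

/-- One round of closing under products. -/
noncomputable def stepIdx (L : List Nat) : List Nat :=
  (List.range 32).filter fun t => (L.contains t) ||
    L.any fun a => reflIdx.any fun b => Nat.beq ((qMul.getD a []).getD b 0) t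

theorem refl_gen : (List.range 32).all
    (fun t => (stepIdx (stepIdx (stepIdx (stepIdx (stepIdx reflIdx))))).contains t) = true := by
  decide +kernel

theorem refl_mem {T : Subgroup P}
    (hT : ∀ (g : P) (h : g * z * g⁻¹ ∈ C), η ⟨_, h⟩ = 1 → g * z * g⁻¹ ∈ T) :
    ∀ x : C, η x = 1 → (x : P) ∈ T := by
  have hbase : ∀ t ∈ reflIdx, ev Lp (qWords.getD t []) ∈ T := by
    intro t ht
    simp only [reflIdx, List.mem_filter, List.mem_range, List.any_eq_true] at ht
    obtain ⟨ht32, u, -, hu⟩ := ht
    have e := sameW_eq hu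
    rw [ev_conj_word] at e
    have h : ev Lp u * z * (ev Lp u)⁻¹ ∈ C := by
      rw [show ev Lp u * z * (ev Lp u)⁻¹ = ev Lp (qWords.getD t []) from e]
      exact mem_C_word (q_mem ⟨t, ht32⟩)
    have h1 := hT (ev Lp u) h (by
      rw [show (⟨_, h⟩ : C) = (qElt ⟨t, ht32⟩).1 from Subtype.ext e]
      exact (qElt ⟨t, ht32⟩).2)
    rwa [show ev Lp u * z * (ev Lp u)⁻¹ = ev Lp (qWords.getD t []) from e] at h1
  have hstep : ∀ L : List Nat, (∀ t ∈ L, t < 32 ∧ ev Lp (qWords.getD t []) ∈ T) →
      ∀ t ∈ stepIdx L, t < 32 ∧ ev Lp (qWords.getD t []) ∈ T := by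
    intro L hL t ht
    simp only [stepIdx, List.mem_filter, List.mem_range, Bool.or_eq_true, List.any_eq_true,
      List.contains_iff_mem] at ht
    obtain ⟨ht32, h | ⟨a, ha, b, hb, hab⟩⟩ := ht
    · exact hL t h
    refine ⟨ht32, ?_⟩
    obtain ⟨ha32, haT⟩ := hL a ha
    have hb32 : b < 32 := by
      simp only [reflIdx, List.mem_filter, List.mem_range] at hb; exact hb.1
    have e := qElt_mul ⟨a, ha32⟩ ⟨b, hb32⟩
    have e' : qm ⟨a, ha32⟩ ⟨b, hb32⟩ = ⟨t, ht32⟩ := Fin.ext (Nat.eq_of_beq_eq_true hab)
    rw [e'] at e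
    rw [show ev Lp (qWords.getD t []) = ev Lp (qWords.getD a []) * ev Lp (qWords.getD b []) from
      (congrArg (fun q : Q => ((q : C) : P)) e).symm]
    exact mul_mem haT (hbase b hb)
  intro x hx
  obtain ⟨t, ht⟩ := qElt_bijective.2 ⟨x, hx⟩
  have h0 : ∀ t ∈ reflIdx, t < 32 ∧ ev Lp (qWords.getD t []) ∈ T := fun t ht =>
    ⟨by simp only [reflIdx, List.mem_filter, List.mem_range] at ht; exact ht.1, hbase t ht⟩
  have h5 := hstep _ (hstep _ (hstep _ (hstep _ (hstep _ h0))))
  have hmem := List.all_eq_true.mp refl_gen t.val (List.mem_range.mpr t.isLt)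
  have := (h5 t.val (List.contains_iff_mem.mp hmem)).2
  rwa [show (x : P) = ((qElt t : Q) : C) from congrArg (fun q : Q => ((q : C) : P)) ht.symm]

/-- Short words. -/
def shortWords : Nat → List (List Nat)
  | 0 => [[]]
  | n + 1 => shortWords n ++ (shortWords n).flatMap fun w => (List.range 5).map fun l => l :: w

/-- A word conjugates an element of the normal subgroup to an element moving a block. -/
noncomputable def outOK (t : Nat) (u : List Nat) : Bool :=
  wordMaps (u ++ qWords.getD t [] ++ u.reverse) &&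
    sameW (u ++ qWords.getD t [] ++ u.reverse ++ [0]) (0 :: (u ++ qWords.getD t [] ++ u.reverse)) &&
    !decide (∀ k, wordMap (u ++ qWords.getD t [] ++ u.reverse) k = k)

theorem out_exists : ((List.range 32).any fun t => (shortWords 4).any (outOK t)) = true := by
  decide +kernel

theorem act_exists : ((altWords.any fun a => qWords.any fun r =>
    !sameW (a ++ r ++ a.reverse) r && !sameW (a ++ r ++ a.reverse) (0 :: r)) &&
    altWords.all (fun a => checkLetters 5 [a] && checkLetters 5 [a.reverse]) &&
    qWords.all (fun r => checkLetters 5 [r])) = true := by decide +kernel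

theorem check_of_lt {w : List Nat} (h : ∀ l ∈ w, l < 5) : checkLetters 5 [w] = true := by
  simp only [checkLetters, allList_iff, List.mem_singleton, forall_eq, Nat.ble_eq]
  exact fun l hl => h l hl

theorem sameW_of_eq {v w : List Nat} (hv : checkLetters 5 [v] = true) (hw : checkLetters 5 [w] = true)
    (e : ev Lp v = ev Lp w) : sameW v w = true := by
  simp only [sameW, Bool.and_eq_true]
  refine ⟨⟨hv, hw⟩, allList_iff.mpr fun b hb => ?_⟩
  obtain ⟨i, -, rfl⟩ := List.mem_map.mp hb
  rw [← matches_ρ.follow_eq v i (fun l hl => by rw [len_Lp]; exact letters_lt hv v (by simp) l hl),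
    ← matches_ρ.follow_eq w i (fun l hl => by rw [len_Lp]; exact letters_lt hw w (by simp) l hl), e]
  simp

theorem ker_comm (a b : Fin 32) :
    qElt a * qElt b * (qElt a)⁻¹ = qElt b ∨ qElt a * qElt b * (qElt a)⁻¹ = qElt 1 * qElt b := by
  rw [mul_inv_eq_iff_eq_mul, mul_inv_eq_iff_eq_mul, qElt_mul, qElt_mul]
  rcases q_facts.1 a b with h | h
  · exact Or.inl (by rw [h])
  · right
    rw [← h, ← qElt_mul, ← qElt_mul, mul_assoc]
    have hc := Subgroup.mem_center_iff.mp ((center_Q 1).mpr (Or.inr rfl))
    rw [← mul_assoc, hc, mul_assoc]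

theorem qElt_one_eq : ((qElt 1 : Q) : C).1 = z := by
  show ev Lp (qWords.getD 1 []) = fl Lp 0
  rw [show qWords.getD 1 [] = [0] by decide +kernel]
  simp

/-- The 2-fusion system of a group isomorphic to the presented group is simple. -/
theorem fusion_simple {G : Type*} [Group G] [Finite G] (φ : G ≃* P) (S : Sylow 2 G) :
    (Cfsg.groupFusionSystem (S : Subgroup G)).IsSimple 2 := by
  haveI := finite_P
  let C' : Subgroup G := C.comap φ.toMonoidHom
  let f : C' →* C := MonoidHom.mk' (fun x => ⟨φ x, x.2⟩) fun a b => Subtype.ext (map_mul φ _ _)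
  have hf : Function.Surjective f := fun y => ⟨⟨φ.symm y, by
    show φ (φ.symm y) ∈ C; rw [MulEquiv.apply_symm_apply]; exact y.2⟩,
    Subtype.ext (φ.apply_symm_apply _)⟩
  have hinj : Function.Injective f := fun a b h => Subtype.ext (φ.injective (congrArg Subtype.val h))
  refine HJT.FusionSimple.simple_of_data (φ.symm z) C' ?_ (η.comp f) ?_ ?_ ?_ ?_ ?_ ?_ ?_ ?_ ?_ S
  · intro x
    show φ x ∈ C ↔ _
    rw [C, Subgroup.mem_centralizer_singleton_iff, ← φ.injective.eq_iff, map_mul, map_mul,
      MulEquiv.apply_symm_apply]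
  · intro h
    have h1 : (qElt 1 : Q) = qElt 0 := by
      rw [qElt_zero]
      refine Subtype.ext (Subtype.ext ?_)
      rw [qElt_one_eq]
      simpa using congrArg φ h
    exact absurd (qElt_bijective.1 h1) (by decide)
  · rw [Subgroup.index_comap_of_surjective (H := C) φ.surjective]
    have h := Subgroup.card_mul_index C
    rw [card_C, card_P] at h
    omega
  · exact IsPGroup.comap_of_injective (p := 2) (H := η.ker)
      (IsPGroup.of_card (n := 5) (by rw [show Nat.card η.ker = 32 from card_Q]; rfl)) f hinj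
  · rw [MonoidHom.range_comp, MonoidHom.range_eq_top.mpr hf, ← MonoidHom.range_eq_map, range_eq]
  · intro x hx hc
    obtain ⟨a, ha⟩ := qElt_bijective.2 ⟨f x, hx⟩
    have hca : qElt a ∈ Subgroup.center Q := by
      rw [ha, Subgroup.mem_center_iff]
      intro q
      obtain ⟨y, hy⟩ := hf q.1
      refine Subtype.ext ?_
      show (q : C) * f x = f x * q
      rw [← hy, ← map_mul, ← map_mul, hc y (by show η (f y) = 1; rw [hy]; exact q.2)]
    have hxa : φ (x : G) = ((qElt a : Q) : C).1 := congrArg (fun q : Q => ((q : C) : P)) ha.symm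
    rcases (center_Q a).mp hca with rfl | rfl
    · left
      rw [qElt_zero] at hxa
      exact φ.injective (hxa.trans (map_one φ).symm)
    · right
      rw [qElt_one_eq] at hxa
      exact φ.eq_symm_apply.mpr hxa
  · have h := act_exists
    simp only [Bool.and_eq_true, List.any_eq_true, List.all_eq_true, Bool.not_eq_true'] at h
    obtain ⟨⟨⟨a, ha, r, hr, hn1, hn2⟩, hla⟩, hlr⟩ := h
    obtain ⟨t, ht, rfl⟩ := List.getElem_of_mem hr
    obtain ⟨a', ha'⟩ := hf ⟨ev Lp a, mem_C_word (List.mem_append_left _ ha)⟩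
    obtain ⟨r', hr'⟩ := hf (qElt ⟨t, q_len ▸ ht⟩).1
    have hl : checkLetters 5 [a ++ qWords[t] ++ a.reverse] = true := by
      have l1 := letters_lt (hla a ha).1 a (by simp)
      have l2 := letters_lt (hlr _ (List.getElem_mem ht)) qWords[t] (by simp)
      simp only [checkLetters, allList_iff, List.mem_singleton, forall_eq, Nat.ble_eq]
      intro l hl
      simp only [List.mem_append, List.mem_reverse] at hl
      simp only [Nat.add_eq]
      rcases hl with (hl | hl) | hl
      · have := l1 l hl; omega
      · have := l2 l hl; omega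
      · have := l1 l hl; omega
    have hl0 : checkLetters 5 [0 :: qWords[t]] = true := by
      have l2 := letters_lt (hlr _ (List.getElem_mem ht)) qWords[t] (by simp)
      exact check_of_lt fun l hl => by
        rcases List.mem_cons.mp hl with rfl | hl
        · norm_num
        · exact l2 l hl
    have hrv : φ (r' : G) = ev Lp qWords[t] := by
      have := congrArg Subtype.val hr'
      simpa [f, qElt, List.getElem?_eq_getElem ht] using this
    have hav : φ (a' : G) = ev Lp a :=
      congrArg Subtype.val ha'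
    refine ⟨a', r', by show η (f r') = 1; rw [hr']; exact (qElt _).2, fun h => ?_, fun h => ?_⟩
    · have e : ev Lp (a ++ qWords[t] ++ a.reverse) = ev Lp qWords[t] := by
        have := congrArg φ h
        simpa [ev_append, ev_reverse, hrv, hav, mul_assoc] using this
      rw [sameW_of_eq hl (hlr _ (List.getElem_mem ht)) e] at hn1
      exact Bool.noConfusion hn1
    · have e : ev Lp (a ++ qWords[t] ++ a.reverse) = ev Lp (0 :: qWords[t]) := by
        have := congrArg φ h
        simpa [ev_append, ev_reverse, hrv, hav, z, mul_assoc] using this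
      rw [sameW_of_eq hl hl0 e] at hn2
      exact Bool.noConfusion hn2
  · intro x y hx hy
    obtain ⟨a, ha⟩ := qElt_bijective.2 ⟨f x, hx⟩
    obtain ⟨b, hb⟩ := qElt_bijective.2 ⟨f y, hy⟩
    have hxa : φ (x : G) = ((qElt a : Q) : C).1 := congrArg (fun q : Q => ((q : C) : P)) ha.symm
    have hyb : φ (y : G) = ((qElt b : Q) : C).1 := congrArg (fun q : Q => ((q : C) : P)) hb.symm
    refine (ker_comm a b).imp (fun h => φ.injective ?_) (fun h => φ.injective ?_)
    · have := congrArg (fun q : Q => ((q : C) : P)) h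
      simpa [hxa, hyb] using this
    · have := congrArg (fun q : Q => ((q : C) : P)) h
      simpa [hxa, hyb, qElt_one_eq] using this
  · intro T hT x hx
    have key := refl_mem (T := T.comap φ.symm.toMonoidHom) (fun g h hη => ?_) (f x) hx
    · simpa [f] using key
    · have h' : φ.symm g * φ.symm z * (φ.symm g)⁻¹ ∈ C' := by
        show φ _ ∈ C; simpa using h
      have := hT (φ.symm g) h' (by
        show η (f ⟨_, h'⟩) = 1
        rw [show f ⟨_, h'⟩ = ⟨_, h⟩ from Subtype.ext (by simp [f])]
        exact hη)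
      show φ.symm (g * z * g⁻¹) ∈ T
      simpa using this
  · obtain ⟨t, ht, hu⟩ := List.any_eq_true.mp out_exists
    rw [List.mem_range] at ht
    obtain ⟨u, -, hu⟩ := List.any_eq_true.mp hu
    simp only [outOK, Bool.and_eq_true, Bool.not_eq_true', decide_eq_false_iff_not] at hu
    obtain ⟨⟨h1, h2⟩, h3⟩ := hu
    obtain ⟨r', hr'⟩ := hf (qElt ⟨t, ht⟩).1
    have hq2 : φ (r' : G) = ev Lp (qWords.getD t []) := congrArg Subtype.val hr'
    have e : φ (φ.symm (ev Lp u) * (r' : G) * (φ.symm (ev Lp u))⁻¹) =
        ev Lp (u ++ qWords.getD t [] ++ u.reverse) := by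
      simp [ev_append, ev_reverse, hq2, mul_assoc]
    have hc : φ.symm (ev Lp u) * (r' : G) * (φ.symm (ev Lp u))⁻¹ ∈ C' := by
      show φ _ ∈ C
      rw [e, C, Subgroup.mem_centralizer_singleton_iff]
      simpa [ev_append, z, mul_assoc] using sameW_eq h2
    refine ⟨r', by show η (f r') = 1; rw [hr']; exact (qElt ⟨t, ht⟩).2, _, hc, fun h => ?_⟩
    obtain ⟨p, hpk, hp⟩ := maps_word h1
    have hη : η (f ⟨_, hc⟩) = p := η_eq (by
      show Maps (φ _) p
      rw [e]; exact hp)
    exact h3 fun k => by rw [← hpk, ← hη, show η (f ⟨_, hc⟩) = 1 from h]; rfl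

end CfsgLib.J2.Perm
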