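import Cfsg.Agent.J2.Refl
import Cfsg.Agent.J2.TreeData

/-! Checks for the chosen generating reflections. -/

set_option autoImplicit false
set_option maxRecDepth 100000

namespace CfsgLib.J2

open Ico

/-- the line of a generator -/
def gLine (l : Nat) : Nat := Data.gens.getD l 0

/-- the image certificate -/
def gImg (l i : Nat) : Nat := (Data.genImg.getD l []).getD i 0

/-- the image line -/
def gPerm (l i : Nat) : Nat := Nat.shiftRight (gImg l i) 7

/-- a generator moves a line as claimed -/
noncomputable def imgOK (l i : Nat) : Bool :=
  forceN (gImg l i) fun c => forceN (bitsAt c 0 127) fun u => forceN (Nat.shiftRight c 7) fun k =>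
    Nat.blt u 120 && Nat.blt k 315 && Nat.beq (Nat.shiftRight (gImg l k) 7) i &&
    forceI (U u) fun q => forceV (lineV k) fun w => withRefl (lineV (gLine l)) (lineV i) fun r =>
      forceV r fun r => decide (mulI q w.x = r.x) && decide (mulI q w.y = r.y) &&
        decide (mulI q w.z = r.z)

/-- the root of the tree -/
def root : Nat := 1

/-- the root reflection differs from the others -/
noncomputable def sepOK (k : Nat) : Bool :=
  cond (Nat.beq k root) true
    (forceV (lineV root) fun v => withRefl (lineV k) v fun r => forceV r fun r =>
      !(decide (r.x = v.x.neg) && decide (r.y = v.y.neg) && decide (r.z = v.z.neg)))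

/-- the tree is right at a line -/
noncomputable def treeOK (i : Nat) : Bool :=
  forceN (Data.tree.getD i 0) fun t => forceN (bitsAt t 3 511) fun p =>
    cond (Nat.beq i root) true
      (Nat.blt (bitsAt t 0 7) 5 && Nat.blt p 315 && Nat.beq (gPerm (bitsAt t 0 7) p) i &&
        Nat.blt (Nat.shiftRight (Data.tree.getD p 0) 12) (Nat.shiftRight t 12))

/-- a block of lines -/
noncomputable def blockAll (p : Nat → Bool) (b : Nat) : Bool :=
  ((List.range 45).map fun t => 45 * b + t).all fun i => p i

end CfsgLib.J2
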