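import Cfsg.Agent.J2.Main
import Cfsg.Agent.J2.Perm.Cent

/-! Transport of the centraliser to the Hall–Janko group. -/

set_option autoImplicit false
set_option maxRecDepth 100000

namespace CfsgLib.J2

open Cfsg.Spor Perm CfsgLib.Coset

theorem eJ_root : eJ (QuotientGroup.mk ⟨Rv rootF, Rv_mem _⟩) = Perm.z := by
  rw [eJ_mk, MulEquiv.symm_apply_eq]
  refine Subtype.ext ?_
  have e : (⟨Rv rootF, Rv_mem _⟩ : twoJ2) = gT 0 := rfl
  rw [e, act_gT]
  exact (ρ_gen 0).symm

theorem exists_equiv {f : Equiv.Perm icoLeech} (hf : IsIcoReflection f) (hfm : f ∈ twoJ2) :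
    ∃ e : J2 ≃* P, e (QuotientGroup.mk ⟨f, hfm⟩) = Perm.z := by
  obtain ⟨i, rfl⟩ := isRefl_iff.mp hf
  obtain ⟨g, hg, he⟩ := transitive i rootF
  refine ⟨(MulAut.conj (QuotientGroup.mk ⟨g, hg⟩ : J2)).trans eJ, ?_⟩
  rw [← eJ_root]
  show eJ _ = eJ _
  refine congrArg eJ ?_
  show (QuotientGroup.mk ⟨g, hg⟩ : J2) * QuotientGroup.mk ⟨Rv i, hfm⟩ *
    (QuotientGroup.mk ⟨g, hg⟩ : J2)⁻¹ = QuotientGroup.mk ⟨Rv rootF, Rv_mem _⟩
  rw [← QuotientGroup.mk_mul, ← QuotientGroup.mk_inv, ← QuotientGroup.mk_mul]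
  exact congrArg QuotientGroup.mk (Subtype.ext he)

/-- The centraliser corresponds. -/
noncomputable def centEquiv {G H : Type*} [Group G] [Group H] (e : G ≃* H) (x : G) :
    Subgroup.centralizer {x} ≃* Subgroup.centralizer {e x} where
  toFun g := ⟨e g.1, by
    have := g.2
    rw [Subgroup.mem_centralizer_singleton_iff] at this ⊢
    rw [← map_mul, this, map_mul]⟩
  invFun g := ⟨e.symm g.1, by
    have := g.2
    rw [Subgroup.mem_centralizer_singleton_iff] at this ⊢
    apply e.injective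
    rw [map_mul, map_mul, e.apply_symm_apply, this]⟩
  left_inv g := Subtype.ext (e.symm_apply_apply _)
  right_inv g := Subtype.ext (e.apply_symm_apply _)
  map_mul' a b := Subtype.ext (map_mul e _ _)

theorem isExtraspecial_congr {A B : Type*} [Group A] [Group B] [Finite A] [Finite B] (φ : A ≃* B)
    (h : Cfsg.IsExtraspecial 2 A) : Cfsg.IsExtraspecial 2 B := by
  obtain ⟨⟨hp, hf, hc⟩, hz⟩ := h
  have hc1 : Nat.card (Subgroup.center B) = 2 := by
    rw [← hz]; exact (Nat.card_congr (Subgroup.centerCongr φ).toEquiv).symm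
  have hz' : ∀ a : A, a ∈ Subgroup.center A → φ a ∈ Subgroup.center B := fun a ha => by
    rw [Subgroup.mem_center_iff] at ha ⊢
    intro b
    obtain ⟨c, rfl⟩ := φ.surjective b
    rw [← map_mul, ← map_mul, ha]
  refine CfsgLib.Monster.isExtraspecial_of (hp.of_equiv φ) hc1 ?_ ?_ ?_
  · intro x y
    obtain ⟨a, rfl⟩ := φ.surjective x
    obtain ⟨b, rfl⟩ := φ.surjective y
    rw [← map_inv, ← map_inv, ← map_mul, ← map_mul, ← map_mul]
    refine hz' _ (hc ▸ ?_)
    rw [← commutatorElement_def, commutator_def]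
    exact Subgroup.commutator_mem_commutator (Subgroup.mem_top a) (Subgroup.mem_top b)
  · intro x
    obtain ⟨a, rfl⟩ := φ.surjective x
    rw [← map_mul]
    refine hz' _ (hf ▸ ?_)
    rw [← pow_two]
    have : Fact (Nat.Prime 2) := ⟨Nat.prime_two⟩
    exact (CfsgLib.PGroupBasic.commutator_pow_le_frattini hp).2 a
  · by_contra hne
    push Not at hne
    have h1 : Subgroup.center B = ⊤ := eq_top_iff.mpr fun b _ =>
      Subgroup.mem_center_iff.mpr fun c => hne c b
    rw [h1, Subgroup.card_top] at hc1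
    have h2 : (Subgroup.center A) = ⊤ := eq_top_iff.mpr fun a _ =>
      Subgroup.mem_center_iff.mpr fun c => φ.injective (by rw [map_mul, map_mul, hne])
    have : commutator A = ⊥ := by
      rw [commutator_def, eq_bot_iff, Subgroup.commutator_le]
      intro a _ b _
      rw [Subgroup.mem_bot, commutatorElement_eq_one_iff_mul_comm]
      exact φ.injective (by rw [map_mul, map_mul, hne])
    rw [hc, h2] at this
    have h3 : Nat.card A = 2 := by rw [← hz, h2, Subgroup.card_top]
    have h4 : Subsingleton A := ⟨fun a b => by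
      have ha : a ∈ (⊥ : Subgroup A) := this ▸ Subgroup.mem_top a
      have hb : b ∈ (⊥ : Subgroup A) := this ▸ Subgroup.mem_top b
      rw [Subgroup.mem_bot] at ha hb
      rw [ha, hb]⟩
    rw [Nat.card_of_subsingleton (1 : A)] at h3
    omega

theorem centraliser_structure {f : Equiv.Perm icoLeech} (hf : IsIcoReflection f) (hfm : f ∈ twoJ2) :
    ∃ (Q : Subgroup (Subgroup.centralizer {(QuotientGroup.mk ⟨f, hfm⟩ : J2)})) (_ : Q.Normal),
      Nat.card Q = 32 ∧ Cfsg.IsExtraspecial 2 Q ∧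
      Nonempty (Subgroup.centralizer {(QuotientGroup.mk ⟨f, hfm⟩ : J2)} ⧸ Q ≃*
        alternatingGroup (Fin 5)) := by
  have := Perm.finite_P
  obtain ⟨e, he⟩ := exists_equiv hf hfm
  let φ : Subgroup.centralizer {(QuotientGroup.mk ⟨f, hfm⟩ : J2)} ≃* Perm.C :=
    (centEquiv e _).trans (MulEquiv.subgroupCongr (by rw [he]; rfl))
  let η' := Perm.η.comp φ.toMonoidHom
  have hk : η'.ker = Perm.Q.comap φ.toMonoidHom := rfl
  have hQ : (Perm.Q.comap φ.toMonoidHom : Subgroup _) ≃* Perm.Q :=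
    { toFun := fun g => ⟨φ g.1, g.2⟩
      invFun := fun g => ⟨φ.symm g.1, by
        show φ (φ.symm g.1) ∈ Perm.Q
        rw [φ.apply_symm_apply]; exact g.2⟩
      left_inv := fun g => Subtype.ext (φ.symm_apply_apply _)
      right_inv := fun g => Subtype.ext (φ.apply_symm_apply _)
      map_mul' := fun a b => Subtype.ext (map_mul φ _ _) }
  have : Finite (Perm.Q.comap φ.toMonoidHom : Subgroup _) := Finite.of_equiv _ hQ.symm.toEquiv
  refine ⟨η'.ker, inferInstance, ?_, ?_, ?_⟩
  · rw [hk, Nat.card_congr hQ.toEquiv, Perm.card_Q]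
  · rw [hk]; exact isExtraspecial_congr hQ.symm Perm.extra
  · refine ⟨(QuotientGroup.quotientKerEquivRange η').trans (MulEquiv.subgroupCongr ?_)⟩
    rw [show η'.range = Perm.η.range from ?_, Perm.range_eq]
    rw [MonoidHom.range_comp, MonoidHom.range_eq_top.mpr φ.surjective, ← MonoidHom.range_eq_map]

end CfsgLib.J2
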