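import Cfsg.Agent.J2.Vec

/-! The search for minimal vectors with a normalised first component. -/

set_option autoImplicit false
set_option maxRecDepth 100000

namespace CfsgLib.J2

open Ico

/-- the record of a representative -/
def repRec (j : Nat) : Nat := Data.reps.getD j 0

/-- the negated sum class -/
def addBAt (a b : Nat) : Nat := Data.addB.getD (a * 16 + b) 0

/-- records in one class, with their weights -/
noncomputable def rowsH (h : Nat) (l : List Nat) : List (Nat × Nat × Nat) :=
  List.rec [] (fun n _ ih => cond (Nat.beq (hcl n) h)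
    (forceN n fun n => forceN (bcl n) fun b => forceN (weight (decI n).nrm) fun w =>
      (n, b, w) :: ih) ih) l

theorem mem_rowsH {h n : Nat} {l : List Nat} (hn : n ∈ l) (hh : hcl n = h) :
    (n, bcl n, weight (decI n).nrm) ∈ rowsH h l := by
  induction l with
  | nil => simp at hn
  | cons a t ih =>
    show _ ∈ cond (Nat.beq (hcl a) h) (forceN a fun n => forceN (bcl n) fun b =>
      forceN (weight (decI n).nrm) fun w => (n, b, w) :: rowsH h t) (rowsH h t)
    rw [forceN_eq, forceN_eq, forceN_eq]
    rcases List.mem_cons.mp hn with rfl | hn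
    · rw [show Nat.beq (hcl n) h = true from hh ▸ Nat.beq_refl _, cond_true]
      exact List.mem_cons_self
    · have := ih hn
      cases Nat.beq (hcl a) h <;> simp [this]

/-- the weight of sixteen -/
def fullW : Nat := 208 + 80 * 1048576

/-- the third components -/
noncomputable def thirds (rows : List (Nat × Nat × Nat)) (m b w : Nat) : List (Nat × Nat) :=
  List.rec [] (fun r _ ih => cond (Nat.beq r.2.1 b)
    (cond (Nat.beq (Nat.add w r.2.2) fullW) ((m, r.1) :: ih) ih) ih) rows

theorem mem_thirds {rows : List (Nat × Nat × Nat)} {m b w : Nat} {r : Nat × Nat × Nat}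
    (hr : r ∈ rows) (hb : r.2.1 = b) (hw : w + r.2.2 = fullW) :
    (m, r.1) ∈ thirds rows m b w := by
  induction rows with
  | nil => simp at hr
  | cons a t ih =>
    show _ ∈ cond (Nat.beq a.2.1 b) (cond (Nat.beq (Nat.add w a.2.2) fullW)
      ((m, a.1) :: thirds t m b w) (thirds t m b w)) (thirds t m b w)
    rcases List.mem_cons.mp hr with rfl | hr
    · rw [show Nat.beq r.2.1 b = true from hb ▸ Nat.beq_refl _,
        show Nat.beq (Nat.add w r.2.2) fullW = true from hw ▸ Nat.beq_refl (w + r.2.2),
        cond_true, cond_true]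
      exact List.mem_cons_self
    · have := ih hr
      cases Nat.beq a.2.1 b <;> cases Nat.beq (Nat.add w a.2.2) fullW <;> simp [this]

/-- the second and third components -/
noncomputable def pairsIn (all rows : List (Nat × Nat × Nat)) (b0 w0 : Nat) : List (Nat × Nat) :=
  List.rec [] (fun r _ ih => forceN (Nat.add w0 r.2.2) fun w => cond (wOK w)
    (forceN (addBAt b0 r.2.1) fun b => thirds all r.1 b w ++ ih) ih) rows

theorem mem_pairsIn {all rows : List (Nat × Nat × Nat)} {b0 w0 : Nat} {r : Nat × Nat × Nat}
    {p : Nat × Nat} (hr : r ∈ rows) (hw : wOK (w0 + r.2.2) = true)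
    (hp : p ∈ thirds all r.1 (addBAt b0 r.2.1) (w0 + r.2.2)) : p ∈ pairsIn all rows b0 w0 := by
  induction rows with
  | nil => simp at hr
  | cons a t ih =>
    show _ ∈ forceN (Nat.add w0 a.2.2) fun w => cond (wOK w)
      (forceN (addBAt b0 a.2.1) fun b => thirds all a.1 b w ++ pairsIn all t b0 w0)
      (pairsIn all t b0 w0)
    rw [forceN_eq, forceN_eq]
    rcases List.mem_cons.mp hr with rfl | hr
    · rw [show wOK (Nat.add w0 r.2.2) = true from hw, cond_true]
      exact List.mem_append_left _ hp
    · have := ih hr
      cases wOK (Nat.add w0 a.2.2) <;> simp [this]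

/-- all pairs for a representative -/
noncomputable def pairsOf (j : Nat) : List (Nat × Nat) :=
  forceN (repRec j) fun r => (fun rows => pairsIn rows rows (bcl r) (weight (decI r).nrm))
    (rowsH (hcl r) tab)

/-- a line vector -/
def lineV (i : Nat) : MV :=
  ⟨decI (Data.lines.getD i 0), decI (Nat.shiftRight (Data.lines.getD i 0) 32),
    decI (Nat.shiftRight (Data.lines.getD i 0) 64)⟩

/-- one hit is a unit multiple of a line vector -/
noncomputable def hitOK (r0 : Ico) (p : Nat × Nat) (c : Nat) : Bool :=
  forceN (bitsAt c 0 127) fun u => forceN (Nat.shiftRight c 7) fun i =>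
    Nat.blt u 120 && Nat.blt i 315 &&
    forceI (U u) fun q => forceI (lineV i).x fun a => forceI (lineV i).y fun b =>
      forceI (lineV i).z fun d => forceI r0 fun r => forceI (decI p.1) fun y =>
        forceI (decI p.2) fun z =>
          decide (mulI q a = r) && decide (mulI q b = y) && decide (mulI q d = z)

theorem hitOK_spec {r0 : Ico} {p : Nat × Nat} {c : Nat} (h : hitOK r0 p c = true) :
    ∃ u < 120, ∃ i < 315, MV.smul (U u) (lineV i) = ⟨r0, decI p.1, decI p.2⟩ := by
  simp only [hitOK, forceN_eq, forceI_eq, Bool.and_eq_true, decide_eq_true_eq] at h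
  obtain ⟨⟨hu, hi⟩, ⟨h1, h2⟩, h3⟩ := h
  exact ⟨_, Nat.le_of_ble_eq_true hu, _, Nat.le_of_ble_eq_true hi, MV.ext' h1 h2 h3⟩

/-- a certificate for a list of hits -/
noncomputable def allHits (r0 : Ico) (ps : List (Nat × Nat)) : List Nat → Bool :=
  List.rec (fun cs => cs.isEmpty)
    (fun p _ ih cs => List.rec false (fun c t _ => hitOK r0 p c && ih t) cs) ps

theorem allHits_spec {r0 : Ico} : ∀ {ps : List (Nat × Nat)} {cs : List Nat},
    allHits r0 ps cs = true → ∀ p ∈ ps, ∃ c, hitOK r0 p c = true := by
  intro ps
  induction ps with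
  | nil => simp
  | cons a t ih =>
    intro cs h p hp
    cases cs with
    | nil => exact absurd h Bool.false_ne_true
    | cons c cs =>
      have h' : (hitOK r0 a c && allHits r0 t cs) = true := h
      rw [Bool.and_eq_true] at h'
      rcases List.mem_cons.mp hp with rfl | hp
      · exact ⟨c, h'.1⟩
      · exact ih h'.2 p hp

/-- the certificate of one representative checks -/
noncomputable def repOK (j : Nat) : Bool :=
  allHits (rep j) (pairsOf j) (Data.hits.getD j [])

end CfsgLib.J2
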