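import Cfsg.Prelude.Def_Spor_J2

/-!
An integer model of the icosians: half of a quaternion over `ℤ[τ]`.
-/

set_option autoImplicit false

namespace CfsgLib.J2

open Quaternion Cfsg.Spor

/-- `a + b τ`. -/
structure Zt where
  /-- rational part -/
  a : ℤ
  /-- coefficient of `τ` -/
  b : ℤ

instance : DecidableEq Zt := fun x y =>
  decidable_of_iff (x.a = y.a ∧ x.b = y.b)
    ⟨fun h => by obtain ⟨xa, xb⟩ := x; obtain ⟨ya, yb⟩ := y; simp_all,
     fun h => by simp [h]⟩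

namespace Zt

/-- sum -/
def add (x y : Zt) : Zt := ⟨x.a + y.a, x.b + y.b⟩
/-- difference -/
def sub (x y : Zt) : Zt := ⟨x.a - y.a, x.b - y.b⟩
/-- negation -/
def neg (x : Zt) : Zt := ⟨-x.a, -x.b⟩
/-- product -/
def mul (x y : Zt) : Zt := ⟨x.a * y.a + x.b * y.b, x.a * y.b + x.b * y.a + x.b * y.b⟩
/-- evenness -/
def even (x : Zt) : Bool := x.a % 2 == 0 && x.b % 2 == 0
/-- exact half -/
def half (x : Zt) : Zt := ⟨x.a / 2, x.b / 2⟩

/-- the real number -/
noncomputable def toR (x : Zt) : ℝ := x.a + x.b * tau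

theorem tau_sq : tau * tau = tau + 1 := by
  have h : Real.sqrt 5 * Real.sqrt 5 = 5 := Real.mul_self_sqrt (by norm_num)
  unfold tau
  linear_combination (1 / 4 : ℝ) * h

@[simp] theorem toR_add (x y : Zt) : toR (add x y) = toR x + toR y := by
  simp [toR, add]; ring
@[simp] theorem toR_sub (x y : Zt) : toR (sub x y) = toR x - toR y := by
  simp [toR, sub]; ring
@[simp] theorem toR_neg (x : Zt) : toR (neg x) = -toR x := by
  simp [toR, neg]; ring
@[simp] theorem toR_mul (x y : Zt) : toR (mul x y) = toR x * toR y := by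
  simp [toR, mul]; linear_combination -((x.b : ℝ) * y.b) * tau_sq

theorem toR_injective : Function.Injective toR := by
  intro x y h
  have hs : Irrational (Real.sqrt 5) := Nat.Prime.irrational_sqrt (p := 5) (by norm_num)
  have key : ∀ p q : ℤ, (p : ℝ) + q * tau = 0 → p = 0 ∧ q = 0 := by
    intro p q hpq
    rcases eq_or_ne q 0 with rfl | hq
    · simpa using hpq
    · exfalso
      refine hs ⟨-(2 * p + q) / q, ?_⟩
      have hq' : (q : ℝ) ≠ 0 := by exact_mod_cast hq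
      push_cast
      rw [div_eq_iff hq']
      unfold tau at hpq
      linarith
  obtain ⟨h1, h2⟩ := key (x.a - y.a) (x.b - y.b) (by
    push_cast; unfold toR at h; linear_combination h)
  obtain ⟨xa, xb⟩ := x; obtain ⟨ya, yb⟩ := y
  simp only [Zt.mk.injEq] at *
  omega

theorem toR_half {x : Zt} (h : even x = true) : toR (half x) = toR x / 2 := by
  simp only [even, Bool.and_eq_true, beq_iff_eq] at h
  obtain ⟨h1, h2⟩ := h
  have e1 : ((x.a / 2 : ℤ) : ℝ) * 2 = x.a := by exact_mod_cast (by omega : x.a / 2 * 2 = x.a)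
  have e2 : ((x.b / 2 : ℤ) : ℝ) * 2 = x.b := by exact_mod_cast (by omega : x.b / 2 * 2 = x.b)
  simp only [toR, half]
  linear_combination (1 / 2 : ℝ) * e1 + (tau / 2) * e2

end Zt

/-- Twice a quaternion. -/
structure Ico where
  /-- component -/
  c0 : Zt
  /-- component -/
  c1 : Zt
  /-- component -/
  c2 : Zt
  /-- component -/
  c3 : Zt

instance : DecidableEq Ico := fun x y =>
  decidable_of_iff (x.c0 = y.c0 ∧ x.c1 = y.c1 ∧ x.c2 = y.c2 ∧ x.c3 = y.c3)
    ⟨fun h => by obtain ⟨_, _, _, _⟩ := x; obtain ⟨_, _, _, _⟩ := y; simp_all,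
     fun h => by simp [h]⟩

namespace Ico

/-- sum -/
def add (x y : Ico) : Ico :=
  ⟨x.c0.add y.c0, x.c1.add y.c1, x.c2.add y.c2, x.c3.add y.c3⟩
/-- difference -/
def sub (x y : Ico) : Ico :=
  ⟨x.c0.sub y.c0, x.c1.sub y.c1, x.c2.sub y.c2, x.c3.sub y.c3⟩
/-- negation -/
def neg (x : Ico) : Ico := ⟨x.c0.neg, x.c1.neg, x.c2.neg, x.c3.neg⟩
/-- conjugate -/
def conj (x : Ico) : Ico := ⟨x.c0, x.c1.neg, x.c2.neg, x.c3.neg⟩
/-- twice the product -/
def raw (x y : Ico) : Ico :=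
  ⟨(((x.c0.mul y.c0).sub (x.c1.mul y.c1)).sub (x.c2.mul y.c2)).sub (x.c3.mul y.c3),
   (((x.c0.mul y.c1).add (x.c1.mul y.c0)).add (x.c2.mul y.c3)).sub (x.c3.mul y.c2),
   (((x.c0.mul y.c2).sub (x.c1.mul y.c3)).add (x.c2.mul y.c0)).add (x.c3.mul y.c1),
   (((x.c0.mul y.c3).add (x.c1.mul y.c2)).sub (x.c2.mul y.c1)).add (x.c3.mul y.c0)⟩
/-- evenness -/
def even (x : Ico) : Bool := x.c0.even && x.c1.even && x.c2.even && x.c3.even
/-- exact half -/
def half (x : Ico) : Ico := ⟨x.c0.half, x.c1.half, x.c2.half, x.c3.half⟩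
/-- product -/
def mulI (x y : Ico) : Ico := (raw x y).half
/-- membership in the icosians -/
def inI (x : Ico) : Bool :=
  (x.c2.a + x.c0.b + x.c1.a + x.c1.b) % 2 == 0 && (x.c2.b + x.c0.a + x.c0.b + x.c1.a) % 2 == 0 &&
  (x.c3.a + x.c0.a + x.c0.b + x.c1.b) % 2 == 0 && (x.c3.b + x.c0.a + x.c1.a + x.c1.b) % 2 == 0

/-- the zero -/
def zero : Ico := ⟨⟨0, 0⟩, ⟨0, 0⟩, ⟨0, 0⟩, ⟨0, 0⟩⟩
/-- one -/
def one : Ico := ⟨⟨2, 0⟩, ⟨0, 0⟩, ⟨0, 0⟩, ⟨0, 0⟩⟩
/-- two -/
def two : Ico := ⟨⟨4, 0⟩, ⟨0, 0⟩, ⟨0, 0⟩, ⟨0, 0⟩⟩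

/-- the quaternion -/
noncomputable def toH (x : Ico) : ℍ[ℝ] :=
  ⟨x.c0.toR / 2, x.c1.toR / 2, x.c2.toR / 2, x.c3.toR / 2⟩

@[simp] theorem re_toH (x : Ico) : (toH x).re = x.c0.toR / 2 := rfl
@[simp] theorem imI_toH (x : Ico) : (toH x).imI = x.c1.toR / 2 := rfl
@[simp] theorem imJ_toH (x : Ico) : (toH x).imJ = x.c2.toR / 2 := rfl
@[simp] theorem imK_toH (x : Ico) : (toH x).imK = x.c3.toR / 2 := rfl

theorem toH_injective : Function.Injective toH := by
  intro x y h
  obtain ⟨_, _, _, _⟩ := x; obtain ⟨_, _, _, _⟩ := y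
  replace h := Quaternion.ext_iff.mp h
  simp only [re_toH, imI_toH, imJ_toH, imK_toH] at h
  simp only [Ico.mk.injEq]
  exact ⟨Zt.toR_injective (by linarith [h.1]), Zt.toR_injective (by linarith [h.2.1]),
    Zt.toR_injective (by linarith [h.2.2.1]), Zt.toR_injective (by linarith [h.2.2.2])⟩

@[simp] theorem toH_add (x y : Ico) : toH (add x y) = toH x + toH y := by
  ext <;> simp [add] <;> ring
@[simp] theorem toH_sub (x y : Ico) : toH (sub x y) = toH x - toH y := by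
  ext <;> simp [sub] <;> ring
@[simp] theorem toH_neg (x : Ico) : toH (neg x) = -toH x := by
  ext <;> simp [neg] <;> ring
@[simp] theorem toH_conj (x : Ico) : toH (conj x) = star (toH x) := by
  ext <;> simp [conj] <;> ring
@[simp] theorem toH_zero : toH zero = 0 := by
  ext <;> simp [zero, Zt.toR]
@[simp] theorem toH_one : toH one = 1 := by
  ext <;> simp [one, Zt.toR]
theorem toH_two : toH two = 2 := by
  rw [show (2 : ℍ[ℝ]) = 1 + 1 by norm_num, ← toH_one, ← toH_add]; rfl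

theorem toH_raw (x y : Ico) : toH (raw x y) = toH x * toH y + toH x * toH y := by
  ext <;> simp [raw] <;> ring

theorem toH_half {x : Ico} (h : even x = true) : toH (half x) + toH (half x) = toH x := by
  simp only [even, Bool.and_eq_true] at h
  obtain ⟨⟨⟨h0, h1⟩, h2⟩, h3⟩ := h
  ext <;> simp [half, Zt.toR_half h0, Zt.toR_half h1, Zt.toR_half h2, Zt.toR_half h3] <;> ring

theorem eq_of_add_self {p q : ℍ[ℝ]} (h : p + p = q + q) : p = q := by
  rw [← two_smul ℝ, ← two_smul ℝ] at h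
  exact smul_right_injective _ (two_ne_zero' ℝ) h

theorem half_add_self (x : Ico) : half (add x x) = x ∧ even (add x x) = true := by
  obtain ⟨⟨_, _⟩, ⟨_, _⟩, ⟨_, _⟩, ⟨_, _⟩⟩ := x
  simp only [half, add, even, Zt.half, Zt.add, Zt.even, Bool.and_eq_true, beq_iff_eq,
    Ico.mk.injEq, Zt.mk.injEq]
  omega

theorem toH_mulI_of_even {x y : Ico} (h : even (raw x y) = true) :
    toH (mulI x y) = toH x * toH y := by
  have h1 := toH_half h
  rw [toH_raw] at h1
  exact eq_of_add_self h1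

theorem inI_zero : inI zero = true := by decide

theorem inI_add {x y : Ico} (hx : inI x = true) (hy : inI y = true) : inI (add x y) = true := by
  simp only [inI, add, Zt.add, Bool.and_eq_true, beq_iff_eq] at *
  omega

theorem inI_neg {x : Ico} (hx : inI x = true) : inI (neg x) = true := by
  simp only [inI, neg, Zt.neg, Bool.and_eq_true, beq_iff_eq] at *
  omega

theorem inI_sub {x y : Ico} (hx : inI x = true) (hy : inI y = true) : inI (sub x y) = true := by
  simp only [inI, sub, Zt.sub, Bool.and_eq_true, beq_iff_eq] at *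
  omega

theorem inI_conj {x : Ico} (hx : inI x = true) : inI (conj x) = true := by
  simp only [inI, conj, Zt.neg, Bool.and_eq_true, beq_iff_eq] at *
  omega

/-- An integral basis. -/
def basis : Fin 8 → Ico :=
  ![⟨⟨1, 0⟩, ⟨0, 0⟩, ⟨0, 1⟩, ⟨1, 1⟩⟩, ⟨⟨0, 1⟩, ⟨0, 0⟩, ⟨1, 1⟩, ⟨1, 0⟩⟩,
    ⟨⟨0, 0⟩, ⟨1, 0⟩, ⟨1, 1⟩, ⟨0, 1⟩⟩, ⟨⟨0, 0⟩, ⟨0, 1⟩, ⟨1, 0⟩, ⟨1, 1⟩⟩,
    ⟨⟨0, 0⟩, ⟨0, 0⟩, ⟨2, 0⟩, ⟨0, 0⟩⟩, ⟨⟨0, 0⟩, ⟨0, 0⟩, ⟨0, 2⟩, ⟨0, 0⟩⟩,
    ⟨⟨0, 0⟩, ⟨0, 0⟩, ⟨0, 0⟩, ⟨2, 0⟩⟩, ⟨⟨0, 0⟩, ⟨0, 0⟩, ⟨0, 0⟩, ⟨0, 2⟩⟩]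

/-- The coordinates in the basis. -/
def coef (x : Ico) : Fin 8 → ℤ :=
  ![x.c0.a, x.c0.b, x.c1.a, x.c1.b, (x.c2.a - (x.c0.b + x.c1.a + x.c1.b)) / 2,
    (x.c2.b - (x.c0.a + x.c0.b + x.c1.a)) / 2, (x.c3.a - (x.c0.a + x.c0.b + x.c1.b)) / 2,
    (x.c3.b - (x.c0.a + x.c1.a + x.c1.b)) / 2]

/-- The quaternions of icosians. -/
def model : AddSubgroup ℍ[ℝ] where
  carrier := {q | ∃ z : Ico, inI z = true ∧ toH z = q}
  add_mem' := by rintro _ _ ⟨z, hz, rfl⟩ ⟨w, hw, rfl⟩; exact ⟨_, inI_add hz hw, toH_add z w⟩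
  zero_mem' := ⟨_, inI_zero, toH_zero⟩
  neg_mem' := by rintro _ ⟨z, hz, rfl⟩; exact ⟨_, inI_neg hz, toH_neg z⟩

theorem toH_eq_sum {x : Ico} (hx : inI x = true) :
    toH x = ∑ i, coef x i • toH (basis i) := by
  simp only [inI, Bool.and_eq_true, beq_iff_eq] at hx
  obtain ⟨⟨⟨h1, h2⟩, h3⟩, h4⟩ := hx
  have e1 : (x.c2.a : ℝ) = x.c0.b + x.c1.a + x.c1.b +
      2 * (((x.c2.a - (x.c0.b + x.c1.a + x.c1.b)) / 2 : ℤ) : ℝ) := by
    exact_mod_cast (by omega : x.c2.a = x.c0.b + x.c1.a + x.c1.b +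
      2 * ((x.c2.a - (x.c0.b + x.c1.a + x.c1.b)) / 2))
  have e2 : (x.c2.b : ℝ) = x.c0.a + x.c0.b + x.c1.a +
      2 * (((x.c2.b - (x.c0.a + x.c0.b + x.c1.a)) / 2 : ℤ) : ℝ) := by
    exact_mod_cast (by omega : x.c2.b = x.c0.a + x.c0.b + x.c1.a +
      2 * ((x.c2.b - (x.c0.a + x.c0.b + x.c1.a)) / 2))
  have e3 : (x.c3.a : ℝ) = x.c0.a + x.c0.b + x.c1.b +
      2 * (((x.c3.a - (x.c0.a + x.c0.b + x.c1.b)) / 2 : ℤ) : ℝ) := by
    exact_mod_cast (by omega : x.c3.a = x.c0.a + x.c0.b + x.c1.b +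
      2 * ((x.c3.a - (x.c0.a + x.c0.b + x.c1.b)) / 2))
  have e4 : (x.c3.b : ℝ) = x.c0.a + x.c1.a + x.c1.b +
      2 * (((x.c3.b - (x.c0.a + x.c1.a + x.c1.b)) / 2 : ℤ) : ℝ) := by
    exact_mod_cast (by omega : x.c3.b = x.c0.a + x.c1.a + x.c1.b +
      2 * ((x.c3.b - (x.c0.a + x.c1.a + x.c1.b)) / 2))
  rw [Fin.sum_univ_eight]
  simp only [coef]
  generalize ((x.c2.a - (x.c0.b + x.c1.a + x.c1.b)) / 2) = m4 at e1 ⊢
  generalize ((x.c2.b - (x.c0.a + x.c0.b + x.c1.a)) / 2) = m5 at e2 ⊢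
  generalize ((x.c3.a - (x.c0.a + x.c0.b + x.c1.b)) / 2) = m6 at e3 ⊢
  generalize ((x.c3.b - (x.c0.a + x.c1.a + x.c1.b)) / 2) = m7 at e4 ⊢
  simp only [← Int.cast_smul_eq_zsmul ℝ]
  ext <;> simp [basis, Zt.toR, e1, e2, e3, e4] <;> ring

theorem basis_mul : ∀ i j : Fin 8,
    (even (raw (basis i) (basis j)) && inI (mulI (basis i) (basis j))) = true := by
  decide +kernel

theorem mul_mem_model {x y : Ico} (hx : inI x = true) (hy : inI y = true) :
    toH x * toH y ∈ model := by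
  rw [toH_eq_sum hx, toH_eq_sum hy, Finset.sum_mul]
  refine sum_mem fun i _ => ?_
  rw [Finset.mul_sum]
  refine sum_mem fun j _ => ?_
  rw [smul_mul_assoc, mul_smul_comm]
  refine zsmul_mem (zsmul_mem ?_ _) _
  have h := basis_mul i j
  rw [Bool.and_eq_true] at h
  exact ⟨_, h.2, toH_mulI_of_even h.1⟩

theorem raw_eq {x y z : Ico} (h : toH z = toH x * toH y) : raw x y = add z z :=
  toH_injective (by rw [toH_raw, toH_add, h])

theorem inI_mulI {x y : Ico} (hx : inI x = true) (hy : inI y = true) :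
    inI (mulI x y) = true := by
  obtain ⟨z, hz, he⟩ := mul_mem_model hx hy
  rw [mulI, raw_eq he, (half_add_self z).1]
  exact hz

theorem toH_mulI {x y : Ico} (hx : inI x = true) (hy : inI y = true) :
    toH (mulI x y) = toH x * toH y := by
  obtain ⟨z, hz, he⟩ := mul_mem_model hx hy
  exact toH_mulI_of_even (by rw [raw_eq he]; exact (half_add_self z).2)

/-- the generator `i` -/
def gI : Ico := ⟨⟨0, 0⟩, ⟨2, 0⟩, ⟨0, 0⟩, ⟨0, 0⟩⟩
/-- the second generator -/
def gW : Ico := ⟨⟨1, 0⟩, ⟨1, -1⟩, ⟨0, 0⟩, ⟨0, 1⟩⟩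
/-- `h` -/
def hh : Ico := ⟨⟨1, -2⟩, ⟨1, 0⟩, ⟨1, 0⟩, ⟨1, 0⟩⟩
/-- `h̄` -/
def hb : Ico := conj hh

theorem toH_gI : toH gI = qI := by
  ext <;> simp [gI, qI, Zt.toR]
theorem toH_gW : toH gW = ⟨1 / 2, sig / 2, 0, tau / 2⟩ := by
  ext <;> simp [gW, Zt.toR, sig, tau] <;> ring
theorem toH_hh : toH hh = icoH := by
  ext <;> simp [hh, icoH, Zt.toR, tau] <;> ring
theorem toH_hb : toH hb = star icoH := by rw [hb, toH_conj, toH_hh]

/-- value of a word in the two generators -/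
def evW (w : List Bool) : Ico :=
  w.foldl (fun x l => mulI x (cond l gW gI)) one

theorem evW_mem (w : List Bool) :
    inI (evW w) = true ∧ toH (evW w) ∈ icosians := by
  induction w using List.reverseRecOn with
  | nil => exact ⟨by decide, by rw [evW, List.foldl_nil, toH_one]; exact icosians.one_mem⟩
  | append_singleton w l ih =>
    have hl : inI (cond l gW gI) = true := by cases l <;> decide
    have hl' : toH (cond l gW gI) ∈ icosians := by
      cases l
      · rw [cond_false, toH_gI]; exact Subring.subset_closure (by simp)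
      · rw [cond_true, toH_gW]; exact Subring.subset_closure (Or.inr rfl)
    have e : evW (w ++ [l]) = mulI (evW w) (cond l gW gI) := by simp [evW, List.foldl_append]
    rw [e]
    exact ⟨inI_mulI ih.1 hl, by rw [toH_mulI ih.1 hl]; exact mul_mem ih.2 hl'⟩

/-- each basis vector as a sum of two units -/
def basisWords : Fin 8 → List Bool × List Bool :=
  ![([true], [true, true, false, true]),
    ([true, false], [false, false, true, false, true, true, false, true, true]),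
    ([true, false], [true, false, true, true, false]),
    ([false, true, false], [false, false, false, true, false, true, false, true, true, false]),
    ([false, true, false, true, true, false, true, false, true, true, false, true], []),
    ([true, false], [false, false, false, true]),
    ([false, false, true, false, true, true, false, true, false, true, true, false, true], []),
    ([true], [false, true, false])]

theorem basis_words : ∀ i : Fin 8, basis i =
    cond (basisWords i).2.isEmpty (evW (basisWords i).1)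
      (add (evW (basisWords i).1) (evW (basisWords i).2)) := by decide +kernel

theorem basis_mem (i : Fin 8) : toH (basis i) ∈ icosians := by
  rw [basis_words i]
  cases (basisWords i).2.isEmpty
  · rw [cond_false, toH_add]; exact add_mem (evW_mem _).2 (evW_mem _).2
  · exact (evW_mem _).2

theorem mem_icosians {q : ℍ[ℝ]} : q ∈ icosians ↔ ∃ z : Ico, inI z = true ∧ toH z = q := by
  constructor
  · intro h
    induction h using Subring.closure_induction with
    | mem x hx =>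
      rcases hx with rfl | rfl
      · exact ⟨gI, by decide, toH_gI⟩
      · exact ⟨gW, by decide, toH_gW⟩
    | zero => exact model.zero_mem
    | one => exact ⟨one, by decide, toH_one⟩
    | add x y _ _ hx hy => exact model.add_mem hx hy
    | neg x _ hx => exact model.neg_mem hx
    | mul x y _ _ hx hy =>
      obtain ⟨z, hz, rfl⟩ := hx
      obtain ⟨w, hw, rfl⟩ := hy
      exact ⟨_, inI_mulI hz hw, toH_mulI hz hw⟩
  · rintro ⟨z, hz, rfl⟩
    rw [toH_eq_sum hz]
    exact sum_mem fun i _ => zsmul_mem (basis_mem i) _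

theorem toH_mem {z : Ico} (hz : inI z = true) : toH z ∈ icosians := mem_icosians.mpr ⟨z, hz, rfl⟩

/-- membership in `I·h` -/
def inIh (x : Ico) : Bool := even (mulI x hb) && inI (half (mulI x hb))
/-- membership in `I·h̄` -/
def inIhb (x : Ico) : Bool := even (mulI x hh) && inI (half (mulI x hh))

theorem mem_leftIdeal_iff {g g' : Ico} (hg : inI g = true) (hg' : inI g' = true)
    (h2 : toH g * toH g' = 2) (h2' : toH g' * toH g = 2) {x : Ico} (hx : inI x = true) :
    toH x ∈ leftIdeal (toH g) ↔ even (mulI x g') = true ∧ inI (half (mulI x g')) = true := by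
  constructor
  · rintro ⟨a, ha, he⟩
    obtain ⟨z, hz, rfl⟩ := mem_icosians.mp ha
    have : mulI x g' = add z z := toH_injective (by
      rw [toH_mulI hx hg', he, mul_assoc, h2, toH_add, mul_two])
    rw [this]
    exact ⟨(half_add_self z).2, by rw [(half_add_self z).1]; exact hz⟩
  · rintro ⟨he, hi⟩
    refine ⟨_, toH_mem hi, ?_⟩
    have h1 := toH_half he
    rw [toH_mulI hx hg'] at h1
    have h2x := congrArg (· * toH g) h1
    simp only [add_mul, mul_assoc, h2', mul_two] at h2x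
    exact (eq_of_add_self h2x).symm

theorem hh_mul_hb : toH hh * toH hb = 2 ∧ toH hb * toH hh = 2 := by
  rw [← toH_mulI (by decide) (by decide), ← toH_mulI (by decide) (by decide), ← toH_two]
  exact ⟨congrArg toH (by decide +kernel), congrArg toH (by decide +kernel)⟩

theorem mem_Ih {x : Ico} (hx : inI x = true) :
    toH x ∈ leftIdeal icoH ↔ inIh x = true := by
  rw [← toH_hh, mem_leftIdeal_iff (by decide) (by decide) hh_mul_hb.1 hh_mul_hb.2 hx, inIh,
    Bool.and_eq_true]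

theorem mem_Ihb {x : Ico} (hx : inI x = true) :
    toH x ∈ leftIdeal (star icoH) ↔ inIhb x = true := by
  rw [← toH_hb, mem_leftIdeal_iff (by decide) (by decide) hh_mul_hb.2 hh_mul_hb.1 hx, inIhb,
    Bool.and_eq_true]

end Ico

end CfsgLib.J2
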