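import Cfsg.Agent.J2.Action

/-! The kernel of the action on the reflections is `±1`. -/

set_option autoImplicit false
set_option maxRecDepth 100000

namespace CfsgLib.J2

open Ico Quaternion Cfsg.Spor

theorem ker_line {g : twoJ2} (hg : act g = 1) {L : (Fin 3 → ℍ[ℝ]) →ₗ[ℍ[ℝ]] (Fin 3 → ℍ[ℝ])}
    (hL : ∀ x : icoLeech, ((g.1 x : icoLeech) : Fin 3 → ℍ[ℝ]) = L x.1)
    (hL' : ∀ a b, qip (L a) (L b) = qip a b) (i : Fin 315) :
    ∃ u : Fin 120, L (lineR i) = unitR u • lineR i := by
  have h4 : qip (L (lineR i)) (L (lineR i)) = 4 := by rw [hL', (lineR_spec i).2]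
  have hm : L (lineR i) ∈ icoLeech := hL (linePt i) ▸ (g.1 (linePt i)).2
  obtain ⟨u, k, hk⟩ := min_vector hm h4
  have hc : g.1 * Rv i * g.1⁻¹ = Rv k :=
    conj_Rv (lin_of_mem g.2).1 (unitR_spec u).2.2 ((hL (linePt i)).trans hk)
  have hi : g.1 * Rv i * g.1⁻¹ = Rv i := by
    have := act_spec g i
    rwa [hg, OneMemClass.coe_one, Equiv.Perm.one_apply] at this
  exact ⟨u, (Rv_injective (hi.symm.trans hc)).symm ▸ hk⟩

theorem neg_two_ne : (-2 : ℍ[ℝ]) ≠ 0 := by
  intro h
  have h2 := congrArg Quaternion.normSq (neg_eq_zero.mp h)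
  rw [show (2 : ℍ[ℝ]) = ((2 : ℝ) : ℍ[ℝ]) by norm_cast, Quaternion.normSq_coe, map_zero] at h2
  norm_num at h2

theorem line_axis {i : Fin 315} {t : Fin 3} (h : lineR i = (-2 : ℍ[ℝ]) • axis t)
    {L : (Fin 3 → ℍ[ℝ]) →ₗ[ℍ[ℝ]] (Fin 3 → ℍ[ℝ])} {u : Fin 120}
    (hu : L (lineR i) = unitR u • lineR i) : L (axis t) = unitR u • axis t := by
  have e : unitR u * (-2) = (-2) * unitR u :=
    ((Commute.ofNat_right (unitR u) 2).neg_right).eq
  rw [h, map_smul, smul_smul, e, ← smul_smul] at hu
  exact smul_right_injective _ neg_two_ne hu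

theorem map_diag {L : (Fin 3 → ℍ[ℝ]) →ₗ[ℍ[ℝ]] (Fin 3 → ℍ[ℝ])} {a : Fin 3 → ℍ[ℝ]}
    (h : ∀ t, L (axis t) = a t • axis t) (x : Fin 3 → ℍ[ℝ]) : L x = fun t => x t * a t := by
  have e : x = x 0 • axis 0 + x 1 • axis 1 + x 2 • axis 2 := by
    funext t; fin_cases t <;> simp [axis]
  conv_lhs => rw [e]
  rw [map_add, map_add, map_smul, map_smul, map_smul, h, h, h]
  funext t
  fin_cases t <;> simp [axis]

theorem lineR_314 : lineR 314 = (-2 : ℍ[ℝ]) • axis 0 := by
  funext t
  fin_cases t <;>
    simp [lineR, axis, (show (lineV 314).x = negTwo by decide +kernel), negTwo, toH_neg, toH_two,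
      (show (lineV 314).y = zero by decide +kernel), (show (lineV 314).z = zero by decide +kernel)]

theorem lineR_0 : lineR 0 = (-2 : ℍ[ℝ]) • axis 1 := by
  funext t
  fin_cases t <;>
    simp [lineR, axis, (show (lineV 0).y = negTwo by decide +kernel), negTwo, toH_neg, toH_two,
      (show (lineV 0).x = zero by decide +kernel), (show (lineV 0).z = zero by decide +kernel)]

theorem lineR_9 : lineR 9 = (-2 : ℍ[ℝ]) • axis 2 := by
  funext t
  fin_cases t <;>
    simp [lineR, axis, (show (lineV 9).z = negTwo by decide +kernel), negTwo, toH_neg, toH_two,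
      (show (lineV 9).x = zero by decide +kernel), (show (lineV 9).y = zero by decide +kernel)]

theorem pair_lines : (decide ((lineV 234).x = (lineV 234).y) && decide ((lineV 238).x = (lineV 238).z) &&
    decide ((lineV 235).z = zero) && decide ((lineV 236).z = zero) &&
    inI (lineV 235).x && inI (lineV 235).y && inI (lineV 236).x && inI (lineV 236).y &&
    !decide ((lineV 234).x = zero) && !decide ((lineV 238).x = zero)) = true := by decide +kernel

theorem commute_pair {p q a u : ℍ[ℝ]} (h1 : p * a = u * p) (h2 : q * a = u * q) :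
    a * (star p * q) = (star p * q) * a := by
  rcases eq_or_ne p 0 with rfl | hp
  · simp
  have hn : star p * p = ((Quaternion.normSq p : ℝ) : ℍ[ℝ]) := Quaternion.star_mul_self p
  have hn' : p * star p = ((Quaternion.normSq p : ℝ) : ℍ[ℝ]) := Quaternion.self_mul_star p
  have hne : (Quaternion.normSq p : ℝ) ≠ 0 := fun h => hp (Quaternion.normSq_eq_zero.mp h)
  have h3 : (Quaternion.normSq p : ℝ) • (a * (star p * q)) =
      (Quaternion.normSq p : ℝ) • ((star p * q) * a) := by
    rw [← Quaternion.coe_mul_eq_smul, ← Quaternion.coe_mul_eq_smul]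
    calc ((Quaternion.normSq p : ℝ) : ℍ[ℝ]) * (a * (star p * q))
        = star p * (p * a) * star p * q := by rw [← hn]; noncomm_ring
      _ = star p * u * ((Quaternion.normSq p : ℝ) : ℍ[ℝ]) * q := by
          rw [h1, ← hn']; noncomm_ring
      _ = ((Quaternion.normSq p : ℝ) : ℍ[ℝ]) * (star p * q * a) := by
          rw [mul_assoc (star p) q a, h2, Quaternion.coe_mul_eq_smul, Quaternion.mul_coe_eq_smul,
            smul_mul_assoc, mul_assoc]
  exact smul_right_injective _ hne h3

theorem ker_act {g : twoJ2} (hg : act g = 1) :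
    g = 1 ∨ ∀ x : icoLeech, ((g.1 x : icoLeech) : Fin 3 → ℍ[ℝ]) = -x.1 := by
  obtain ⟨L, hL, hL'⟩ := (lin_of_mem g.2).1
  obtain ⟨u0, h0⟩ := ker_line hg hL hL' 314
  obtain ⟨u1, h1⟩ := ker_line hg hL hL' 0
  obtain ⟨u2, h2⟩ := ker_line hg hL hL' 9
  have hd := map_diag (L := L) (a := ![unitR u0, unitR u1, unitR u2]) (by
    intro t
    fin_cases t
    · exact line_axis lineR_314 h0
    · exact line_axis lineR_0 h1
    · exact line_axis lineR_9 h2)
  have hp := pair_lines
  simp only [Bool.and_eq_true, Bool.not_eq_true', decide_eq_true_eq, decide_eq_false_iff_not] at hp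
  obtain ⟨⟨⟨⟨⟨⟨⟨⟨⟨h234, h238⟩, h235z⟩, h236z⟩, i5x⟩, i5y⟩, i6x⟩, i6y⟩, n234⟩, n238⟩ := hp
  have comp : ∀ i : Fin 315, ∃ u : Fin 120, ∀ t,
      lineR i t * (![unitR u0, unitR u1, unitR u2] t) = unitR u * lineR i t := by
    intro i
    obtain ⟨u, hu⟩ := ker_line hg hL hL' i
    rw [hd] at hu
    exact ⟨u, fun t => congrFun hu t⟩
  obtain ⟨a, ha⟩ := comp 234
  obtain ⟨b, hb'⟩ := comp 238
  have e01 : unitR u0 = unitR u1 := by
    have x0 := ha 0
    have x1 := ha 1
    simp only [lineR, MV.toV_0, MV.toV_1, Matrix.cons_val_zero, Matrix.cons_val_one] at x0 x1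
    rw [show (234 : Fin 315).val = 234 from rfl] at x0 x1
    rw [← h234] at x1
    exact mul_left_cancel₀ (fun h => n234 (toH_injective (h.trans toH_zero.symm)))
      (x0.trans x1.symm)
  have e02 : unitR u0 = unitR u2 := by
    have x0 := hb' 0
    have x1 := hb' 2
    simp only [lineR, MV.toV_0, MV.toV_2, Matrix.cons_val_zero, Matrix.cons_val] at x0 x1
    rw [show (238 : Fin 315).val = 238 from rfl] at x0 x1
    rw [← h238] at x1
    exact mul_left_cancel₀ (fun h => n238 (toH_injective (h.trans toH_zero.symm)))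
      (x0.trans x1.symm)
  obtain ⟨c, hc⟩ := comp 235
  obtain ⟨d, hd'⟩ := comp 236
  have hI := (unit_spec u0.2).1
  have c5 : mulI (U u0.val) (mulI (conj (lineV 235).x) (lineV 235).y) =
      mulI (mulI (conj (lineV 235).x) (lineV 235).y) (U u0.val) := by
    apply toH_injective
    rw [toH_mulI hI (inI_mulI (inI_conj i5x) i5y), toH_mulI (inI_mulI (inI_conj i5x) i5y) hI,
      toH_mulI (inI_conj i5x) i5y, toH_conj]
    refine commute_pair (u := unitR c) ?_ ?_
    · exact hc 0
    · have := hc 1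
      simp only [Matrix.cons_val_one, Matrix.cons_val_zero, ← e01] at this
      exact this
  have c6 : mulI (U u0.val) (mulI (conj (lineV 236).x) (lineV 236).y) =
      mulI (mulI (conj (lineV 236).x) (lineV 236).y) (U u0.val) := by
    apply toH_injective
    rw [toH_mulI hI (inI_mulI (inI_conj i6x) i6y), toH_mulI (inI_mulI (inI_conj i6x) i6y) hI,
      toH_mulI (inI_conj i6x) i6y, toH_conj]
    refine commute_pair (u := unitR d) ?_ ?_
    · exact hd' 0
    · have := hd' 1
      simp only [Matrix.cons_val_one, Matrix.cons_val_zero, ← e01] at this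
      exact this
  have hall : ∀ t, (![unitR u0, unitR u1, unitR u2] : Fin 3 → ℍ[ℝ]) t = unitR u0 := by
    intro t
    fin_cases t <;> simp [← e01, ← e02]
  rcases commutant_check u0 c5 c6 with h | h
  · left
    refine Subtype.ext (Equiv.ext fun x => Subtype.ext ?_)
    rw [hL, hd]
    funext t
    rw [hall, unitR, h, toH_one, mul_one]
    rfl
  · right
    intro x
    rw [hL, hd]
    funext t
    rw [hall, unitR, h, toH_neg, toH_one, mul_neg, mul_one]
    rfl

/-- A word for `-1`. -/
def negWord : List (Fin 5) := [0, 1, 2, 3, 2, 0, 1, 2, 3, 2, 0, 1, 2, 3, 2]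

/-- the product of a word in the model -/
noncomputable def wordChk : List (Fin 5) → MV → (MV → Bool) → Bool :=
  List.rec (fun v f => f v) fun l _ ih v f => ih v fun w => withRefl (lineV (gLine l.val)) w f

theorem wordChk_spec : ∀ (w : List (Fin 5)) (v : MV) (f : MV → Bool),
    wordChk w v f = true → ∀ x : icoLeech, x.1 = v.toV →
      ∃ r : MV, f r = true ∧ (((w.map gR).prod x : icoLeech) : Fin 3 → ℍ[ℝ]) = r.toV := by
  intro w
  induction w with
  | nil => intro v f h x hx; exact ⟨v, h, by simpa using hx⟩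
  | cons l t ih =>
    intro v f h x hx
    obtain ⟨r, hr, he⟩ := ih v _ h x hx
    obtain ⟨e1, e2⟩ := withRefl_spec hr
    refine ⟨_, e2, ?_⟩
    rw [List.map_cons, List.prod_cons, Equiv.Perm.mul_apply, gR, Rv_apply, he, e1]
    rfl

/-- the check that the word is `-1` -/
noncomputable def negChk (i : Nat) : Bool :=
  forceV (lineV i) fun v => wordChk negWord v fun r => forceV r fun r =>
    decide (r.x = v.x.neg) && decide (r.y = v.y.neg) && decide (r.z = v.z.neg)

theorem neg_check : (negChk 314 && negChk 0 && negChk 9) = true := by decide +kernel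

/-- The negation. -/
noncomputable def negOne : twoJ2 := (negWord.map gT).prod

theorem negOne_val : negOne.1 = (negWord.map gR).prod := by
  rw [negOne, SubmonoidClass.coe_list_prod, List.map_map]
  rfl

theorem negOne_apply (x : icoLeech) :
    ((negOne.1 x : icoLeech) : Fin 3 → ℍ[ℝ]) = -x.1 := by
  obtain ⟨L, hL, -⟩ := (lin_of_mem negOne.2).1
  have key : ∀ (i : Fin 315) (t : Fin 3), negChk i.val = true →
      lineR i = (-2 : ℍ[ℝ]) • axis t → L (axis t) = (-1 : ℍ[ℝ]) • axis t := by
    intro i t h he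
    rw [negChk, forceV_eq] at h
    obtain ⟨r, hr, hw⟩ := wordChk_spec _ _ _ h (linePt i) rfl
    rw [forceV_eq] at hr
    simp only [Bool.and_eq_true, decide_eq_true_eq] at hr
    obtain ⟨⟨r1, r2⟩, r3⟩ := hr
    have e : L (lineR i) = -lineR i := by
      rw [show lineR i = (linePt i).1 from rfl, ← hL, negOne_val, hw]
      funext s
      fin_cases s <;> simp [linePt, lineR, r1, r2, r3]
    rw [he, map_smul, ← smul_neg] at e
    rw [smul_right_injective _ neg_two_ne e, neg_one_smul]
  have hn := neg_check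
  simp only [Bool.and_eq_true] at hn
  rw [hL, map_diag (a := fun _ => -1) (by
    intro t
    fin_cases t
    · exact key 314 0 hn.1.1 lineR_314
    · exact key 0 1 hn.1.2 lineR_0
    · exact key 9 2 hn.2 lineR_9)]
  funext t
  simp

end CfsgLib.J2
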