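import Cfsg.Agent.J2.ChkHit0
import Cfsg.Agent.J2.ChkHit1
import Cfsg.Agent.J2.ChkHit2
import Cfsg.Agent.J2.ChkHit3

/-! Every minimal vector is a unit multiple of one of the 315 line vectors. -/

set_option autoImplicit false
set_option maxRecDepth 100000

namespace CfsgLib.J2

open Ico Quaternion Cfsg.Spor

theorem rep_ok_all : ∀ j : Fin 52, repOK j.val = true := by
  intro j
  match j with
  | ⟨0, _⟩ => exact hit0
  | ⟨1, _⟩ => exact hit1
  | ⟨2, _⟩ => exact hit2
  | ⟨3, _⟩ => exact hit3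
  | ⟨4, _⟩ => exact hit4
  | ⟨5, _⟩ => exact hit5
  | ⟨6, _⟩ => exact hit6
  | ⟨7, _⟩ => exact hit7
  | ⟨8, _⟩ => exact hit8
  | ⟨9, _⟩ => exact hit9
  | ⟨10, _⟩ => exact hit10
  | ⟨11, _⟩ => exact hit11
  | ⟨12, _⟩ => exact hit12
  | ⟨13, _⟩ => exact hit13
  | ⟨14, _⟩ => exact hit14
  | ⟨15, _⟩ => exact hit15
  | ⟨16, _⟩ => exact hit16
  | ⟨17, _⟩ => exact hit17
  | ⟨18, _⟩ => exact hit18
  | ⟨19, _⟩ => exact hit19
  | ⟨20, _⟩ => exact hit20
  | ⟨21, _⟩ => exact hit21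
  | ⟨22, _⟩ => exact hit22
  | ⟨23, _⟩ => exact hit23
  | ⟨24, _⟩ => exact hit24
  | ⟨25, _⟩ => exact hit25
  | ⟨26, _⟩ => exact hit26
  | ⟨27, _⟩ => exact hit27
  | ⟨28, _⟩ => exact hit28
  | ⟨29, _⟩ => exact hit29
  | ⟨30, _⟩ => exact hit30
  | ⟨31, _⟩ => exact hit31
  | ⟨32, _⟩ => exact hit32
  | ⟨33, _⟩ => exact hit33
  | ⟨34, _⟩ => exact hit34
  | ⟨35, _⟩ => exact hit35
  | ⟨36, _⟩ => exact hit36
  | ⟨37, _⟩ => exact hit37
  | ⟨38, _⟩ => exact hit38
  | ⟨39, _⟩ => exact hit39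
  | ⟨40, _⟩ => exact hit40
  | ⟨41, _⟩ => exact hit41
  | ⟨42, _⟩ => exact hit42
  | ⟨43, _⟩ => exact hit43
  | ⟨44, _⟩ => exact hit44
  | ⟨45, _⟩ => exact hit45
  | ⟨46, _⟩ => exact hit46
  | ⟨47, _⟩ => exact hit47
  | ⟨48, _⟩ => exact hit48
  | ⟨49, _⟩ => exact hit49
  | ⟨50, _⟩ => exact hit50
  | ⟨51, _⟩ => exact hit51
  | ⟨_ + 52, h⟩ => exact absurd h (by omega)

theorem units_ok : ∀ i : Fin 120,
    (inI (U i.val) && decide (mulI (U i.val) (conj (U i.val)) = one)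
      && decide (mulI (conj (U i.val)) (U i.val) = one)) = true := by decide +kernel

theorem reps_ok : ∀ j : Fin 52, (inI (rep j.val) &&
    inIhK ((rep j.val).sub (rH (hcl (repRec j.val)))) &&
    inIhbK ((rep j.val).sub (rB (bcl (repRec j.val))))) = true := by decide +kernel

theorem reps_norm_one : ∀ j : Fin 52, (rep j.val).nrm = ⟨4, 0⟩ → rep j.val = neg one := by
  decide +kernel

theorem classes_ok : ∀ i j : Fin 16, (inI (rH i.val) && inI (rB i.val) &&
    (decide (i = j) || (!inIhK ((rH i.val).sub (rH j.val)) && !inIhbK ((rB i.val).sub (rB j.val)))) &&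
    inIhbK (((rB i.val).add (rB j.val)).add (rB (addBAt i.val j.val))) &&
    decide (addBAt i.val j.val < 16)) = true := by decide +kernel

theorem field_lt (n s : Nat) : bitsAt n s 15 < 16 := by rw [bitsAt_eq]; omega

theorem inI_rH {i : Nat} (hi : i < 16) : inI (rH i) = true := by
  have h := classes_ok ⟨i, hi⟩ ⟨i, hi⟩
  simp only [Bool.and_eq_true] at h
  exact h.1.1.1.1

theorem inI_rB {i : Nat} (hi : i < 16) : inI (rB i) = true := by
  have h := classes_ok ⟨i, hi⟩ ⟨i, hi⟩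
  simp only [Bool.and_eq_true] at h
  exact h.1.1.1.2

theorem rH_unique {i j : Nat} (hi : i < 16) (hj : j < 16)
    (h : inIh ((rH i).sub (rH j)) = true) : i = j := by
  have hc := classes_ok ⟨i, hi⟩ ⟨j, hj⟩
  simp only [inIhK_eq, h, Bool.and_eq_true, Bool.or_eq_true, decide_eq_true_eq, Bool.not_true,
    Bool.false_and, Bool.false_eq_true, or_false, Fin.mk.injEq] at hc
  exact hc.1.1.2

theorem rB_unique {i j : Nat} (hi : i < 16) (hj : j < 16)
    (h : inIhb ((rB i).sub (rB j)) = true) : i = j := by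
  have hc := classes_ok ⟨i, hi⟩ ⟨j, hj⟩
  simp only [inIhbK_eq, h, Bool.and_eq_true, Bool.or_eq_true, decide_eq_true_eq, Bool.not_true,
    Bool.and_false, Bool.false_eq_true, or_false, Fin.mk.injEq] at hc
  exact hc.1.1.2

theorem addB_spec {a b : Nat} (ha : a < 16) (hb : b < 16) :
    inIhb (((rB a).add (rB b)).add (rB (addBAt a b))) = true ∧ addBAt a b < 16 := by
  have hc := classes_ok ⟨a, ha⟩ ⟨b, hb⟩
  simp only [inIhbK_eq, Bool.and_eq_true, decide_eq_true_eq] at hc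
  exact ⟨hc.1.2, hc.2⟩

theorem rec_spec {n : Nat} (h : n ∈ tab) :
    inI (decI n) = true ∧ inIh ((decI n).sub (rH (hcl n))) = true ∧
      inIhb ((decI n).sub (rB (bcl n))) = true ∧
      ∃ u < 120, ∃ j < 52, mulI (U u) (rep j) = decI n := by
  have hr := mem_tab h
  simp only [recOK, forceN_eq, forceI_eq, inIhK_eq, inIhbK_eq, Bool.and_eq_true,
    decide_eq_true_eq] at hr
  obtain ⟨⟨⟨⟨⟨h1, h2⟩, h3⟩, h4⟩, h5⟩, h6⟩ := hr
  exact ⟨h1, h2, h3, _, Nat.le_of_ble_eq_true h4, _, Nat.le_of_ble_eq_true h5, h6⟩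

theorem unit_spec {u : Nat} (hu : u < 120) :
    inI (U u) = true ∧ toH (U u) * star (toH (U u)) = 1 ∧ star (toH (U u)) * toH (U u) = 1 := by
  have h := units_ok ⟨u, hu⟩
  simp only [Bool.and_eq_true, decide_eq_true_eq] at h
  obtain ⟨⟨h1, h2⟩, h3⟩ := h
  refine ⟨h1, ?_, ?_⟩
  · rw [← toH_conj, ← toH_mulI h1 (inI_conj h1), h2, toH_one]
  · rw [← toH_conj, ← toH_mulI (inI_conj h1) h1, h3, toH_one]

theorem okP_part {v : MV} (hv : v.nrm = ⟨16, 0⟩) :
    okP v.x.nrm = true ∧ okP v.y.nrm = true ∧ okP v.z.nrm = true ∧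
      okP (v.x.nrm.add v.y.nrm) = true := by
  have hx := inCone_nrm v.x
  have hy := inCone_nrm v.y
  have hz := inCone_nrm v.z
  have h2 : okP (v.x.nrm.add v.y.nrm) = true := okP_of_split (hx.add hy) hz hv
  refine ⟨okP_left hx hy h2, okP_right hx hy h2, okP_of_split hz (hx.add hy) ?_, h2⟩
  rw [← hv]; simp [MV.nrm, Zt.add, add_comm]

theorem normalised_min {v : MV} (hv : MV.inL v = true) (hn : v.nrm = ⟨16, 0⟩) {j : Nat}
    (hj : j < 52) (hx : v.x = rep j) :
    ∃ u < 120, ∃ i < 315, MV.smul (U u) (lineV i) = v := by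
  obtain ⟨ha, hxy, hyz, hsum⟩ := MV.inL_iff.mp hv
  obtain ⟨hIx, hIy, hIz⟩ := MV.allI_iff.mp ha
  obtain ⟨-, hoky, hokz, hokxy⟩ := okP_part hn
  obtain ⟨m, hm, hme⟩ := exists_tab hIy hoky
  obtain ⟨k, hk, hke⟩ := exists_tab hIz hokz
  obtain ⟨-, hmh, hmb, -⟩ := rec_spec hm
  obtain ⟨-, hkh, hkb, -⟩ := rec_spec hk
  rw [hme] at hmh hmb
  rw [hke] at hkh hkb
  have hr := reps_ok ⟨j, hj⟩
  simp only [inIhK_eq, inIhbK_eq, Bool.and_eq_true] at hr
  obtain ⟨⟨-, hrh⟩, hrb⟩ := hr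
  rw [← hx] at hrh hrb
  have l0 : hcl (repRec j) < 16 := field_lt _ _
  have lm : hcl m < 16 := field_lt _ _
  have lk : hcl k < 16 := field_lt _ _
  have b0 : bcl (repRec j) < 16 := field_lt _ _
  have bm : bcl m < 16 := field_lt _ _
  have bk : bcl k < 16 := field_lt _ _
  have e1 : hcl (repRec j) = hcl m := by
    refine rH_unique l0 lm ?_
    have e : (rH (hcl (repRec j))).sub (rH (hcl m)) =
        ((v.x.sub v.y).sub (v.x.sub (rH (hcl (repRec j))))).add (v.y.sub (rH (hcl m))) :=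
      toH_injective (by simp only [toH_sub, toH_add]; abel)
    rw [e]
    exact inIh_add (inI_sub (inI_sub hIx hIy) (inI_sub hIx (inI_rH l0)))
      (inI_sub hIy (inI_rH lm))
      (inIh_sub (inI_sub hIx hIy) (inI_sub hIx (inI_rH l0)) hxy hrh) hmh
  have e2 : hcl m = hcl k := by
    refine rH_unique lm lk ?_
    have e : (rH (hcl m)).sub (rH (hcl k)) =
        ((v.y.sub v.z).sub (v.y.sub (rH (hcl m)))).add (v.z.sub (rH (hcl k))) :=
      toH_injective (by simp only [toH_sub, toH_add]; abel)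
    rw [e]
    exact inIh_add (inI_sub (inI_sub hIy hIz) (inI_sub hIy (inI_rH lm)))
      (inI_sub hIz (inI_rH lk))
      (inIh_sub (inI_sub hIy hIz) (inI_sub hIy (inI_rH lm)) hyz hmh) hkh
  have e3 : bcl k = addBAt (bcl (repRec j)) (bcl m) := by
    obtain ⟨hs, hlt⟩ := addB_spec b0 bm
    refine rB_unique bk hlt ?_
    have i1 := inI_sub hIx (inI_rB b0)
    have i2 := inI_sub hIy (inI_rB bm)
    have i3 := inI_sub hIz (inI_rB bk)
    have i4 := inI_add (inI_add hIx hIy) hIz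
    have i5 := inI_add (inI_add (inI_rB b0) (inI_rB bm)) (inI_rB hlt)
    have e : (rB (bcl k)).sub (rB (addBAt (bcl (repRec j)) (bcl m))) =
        ((((v.x.add v.y).add v.z).sub (((rB (bcl (repRec j))).add (rB (bcl m))).add
          (rB (addBAt (bcl (repRec j)) (bcl m))))).sub (v.x.sub (rB (bcl (repRec j))))).sub
          ((v.y.sub (rB (bcl m))).add (v.z.sub (rB (bcl k)))) :=
      toH_injective (by simp only [toH_sub, toH_add]; abel)
    rw [e]
    exact inIhb_sub (inI_sub (inI_sub i4 i5) i1) (inI_add i2 i3)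
      (inIhb_sub (inI_sub i4 i5) i1 (inIhb_sub i4 i5 hsum hs) hrb)
      (inIhb_add i2 i3 hmb hkb)
  have hp : (m, k) ∈ pairsOf j := by
    rw [pairsOf, forceN_eq]
    refine mem_pairsIn (r := (m, bcl m, weight (decI m).nrm)) (mem_rowsH hm e1.symm) ?_ ?_
    · show wOK (weight (decI (repRec j)).nrm + weight (decI m).nrm) = true
      rw [show decI (repRec j) = v.x from hx.symm, hme,
        ← weight_add (inCone_nrm _) (inCone_nrm _)]
      exact wOK_weight ((inCone_nrm _).add (inCone_nrm _)) hokxy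
    · refine mem_thirds (r := (k, bcl k, weight (decI k).nrm))
        (mem_rowsH hk (e1.trans e2).symm) e3 ?_
      show weight (decI (repRec j)).nrm + weight (decI m).nrm + weight (decI k).nrm = fullW
      rw [show decI (repRec j) = v.x from hx.symm, hme, hke,
        ← weight_add (inCone_nrm _) (inCone_nrm _),
        ← weight_add ((inCone_nrm _).add (inCone_nrm _)) (inCone_nrm _),
        show (v.x.nrm.add v.y.nrm).add v.z.nrm = ⟨16, 0⟩ from hn]
      decide
  obtain ⟨c, hc⟩ := allHits_spec (rep_ok_all ⟨j, hj⟩) _ hp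
  obtain ⟨u, hu, i, hi, he⟩ := hitOK_spec hc
  exact ⟨u, hu, i, hi, he.trans (MV.ext' hx.symm hme hke)⟩

theorem unit_index {q₀ : Ico} (hq₀ : inI q₀ = true) (h₀ : toH q₀ * star (toH q₀) = 1) :
    ∃ u < 120, U u = q₀ := by
  have hq := inI_neg hq₀
  have h : toH (neg q₀) * star (toH (neg q₀)) = 1 := by
    rw [toH_neg, star_neg, neg_mul_neg, h₀]
  generalize hgen : neg q₀ = q at hq h
  rw [toH_mul_star, ← Quaternion.coe_one, Quaternion.coe_inj] at h
  have hn : q.nrm = ⟨4, 0⟩ := Zt.toR_injective (by simp [Zt.toR] at h ⊢; linarith)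
  obtain ⟨n, hn', hne⟩ := exists_tab hq (by rw [hn]; decide)
  obtain ⟨-, -, -, u, hu, j, hj, he⟩ := rec_spec hn'
  rw [hne] at he
  obtain ⟨hIu, hu1, hu2⟩ := unit_spec hu
  have hIj : inI (rep j) = true := by
    have hr := reps_ok ⟨j, hj⟩
    simp only [Bool.and_eq_true] at hr
    exact hr.1.1
  have e : toH q = toH (U u) * toH (rep j) := by rw [← he, toH_mulI hIu hIj]
  have hjn : (rep j).nrm = ⟨4, 0⟩ := by
    have h1 : toH (rep j) = star (toH (U u)) * toH q := by rw [e, ← mul_assoc, hu2, one_mul]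
    have h2 : toH q * star (toH q) = ((1 : ℝ) : ℍ[ℝ]) := by
      rw [toH_mul_star, Quaternion.coe_inj]; exact h
    have h3 := toH_mul_star (rep j)
    rw [h1, star_mul, star_star, mul_assoc, ← mul_assoc (toH q), h2, Quaternion.coe_one, one_mul,
      hu2, ← Quaternion.coe_one, Quaternion.coe_inj] at h3
    exact Zt.toR_injective (by simp [Zt.toR] at h3 ⊢; linarith)
  refine ⟨u, hu, toH_injective ?_⟩
  rw [reps_norm_one ⟨j, hj⟩ hjn, toH_neg, toH_one, mul_neg_one, ← hgen, toH_neg, neg_inj] at e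
  exact e.symm

/-- A line vector as a real vector. -/
noncomputable def lineR (i : Fin 315) : Fin 3 → ℍ[ℝ] := (lineV i.val).toV

/-- A unit as a quaternion. -/
noncomputable def unitR (u : Fin 120) : ℍ[ℝ] := toH (U u.val)

theorem line_ok : ∀ i : Fin 315,
    (MV.inL (lineV i.val) && decide ((lineV i.val).nrm = ⟨16, 0⟩)) = true := by decide +kernel

theorem lineR_spec (i : Fin 315) : lineR i ∈ icoLeech ∧ qip (lineR i) (lineR i) = 4 := by
  have h := line_ok i
  simp only [Bool.and_eq_true, decide_eq_true_eq] at h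
  exact ⟨MV.mem_icoLeech.mpr ⟨_, h.1, rfl⟩, MV.qip_self_eq_four.mpr h.2⟩

theorem min_vector {f : Fin 3 → ℍ[ℝ]} (hf : f ∈ icoLeech) (h4 : qip f f = 4) :
    ∃ (u : Fin 120) (i : Fin 315), f = unitR u • lineR i := by
  obtain ⟨v, hv, rfl⟩ := MV.mem_icoLeech.mp hf
  have hn := MV.qip_self_eq_four.mp h4
  obtain ⟨ha, -⟩ := MV.inL_iff.mp hv
  obtain ⟨hIx, -⟩ := MV.allI_iff.mp ha
  obtain ⟨n, hn', hne⟩ := exists_tab hIx (okP_part hn).1
  obtain ⟨-, -, -, u, hu, j, hj, he⟩ := rec_spec hn'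
  rw [hne] at he
  obtain ⟨hIu, hu1, hu2⟩ := unit_spec hu
  have hIc := inI_conj hIu
  have hIj : inI (rep j) = true := by
    have hr := reps_ok ⟨j, hj⟩
    simp only [Bool.and_eq_true] at hr
    exact hr.1.1
  set w := MV.smul (conj (U u)) v
  have hw : MV.inL w = true := MV.inL_smul hIc hv
  have hwn : w.nrm = ⟨16, 0⟩ := by
    rw [← MV.qip_self_eq_four, MV.toV_smul hIc ha, qip_smul, h4, toH_conj, star_star,
      show star (toH (U u)) * 4 = 4 * star (toH (U u)) from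
        (Commute.ofNat_right _ 4).eq, mul_assoc, hu2]
    norm_num
  have hwx : w.x = rep j := toH_injective (by
    show toH (mulI (conj (U u)) v.x) = _
    rw [toH_mulI hIc hIx, toH_conj, ← he, toH_mulI hIu hIj, ← mul_assoc, hu2, one_mul])
  obtain ⟨c, hc, i, hi, hce⟩ := normalised_min hw hwn hj hwx
  obtain ⟨hIv, hc1, -⟩ := unit_spec hc
  obtain ⟨d, hd, hde⟩ := unit_index (inI_mulI hIu hIv) (by
    rw [toH_mulI hIu hIv, star_mul, mul_assoc, ← mul_assoc (toH (U c)), hc1, one_mul, hu1])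
  have hline := line_ok ⟨i, hi⟩
  simp only [Bool.and_eq_true] at hline
  refine ⟨⟨d, hd⟩, ⟨i, hi⟩, ?_⟩
  show v.toV = toH (U d) • (lineV i).toV
  rw [hde, toH_mulI hIu hIv, mul_smul, ← MV.toV_smul hIv (MV.inL_iff.mp hline.1).1, hce,
    MV.toV_smul hIc ha, toH_conj, smul_smul, hu1, one_smul]

theorem unitR_spec (u : Fin 120) :
    unitR u ∈ icosians ∧ unitR u * star (unitR u) = 1 ∧ star (unitR u) * unitR u = 1 :=
  ⟨toH_mem (unit_spec u.2).1, (unit_spec u.2).2.1, (unit_spec u.2).2.2⟩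

theorem units_distinct : ∀ a b : Fin 120, U a.val = U b.val → a = b := by decide +kernel

theorem unitR_injective : Function.Injective unitR := fun a b h =>
  units_distinct a b (toH_injective h)

end CfsgLib.J2
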