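import Cfsg.Agent.J2.Main
import Cfsg.Agent.J2.Aut.Main

/-! The outer automorphism group of the Hall–Janko group. -/

set_option autoImplicit false

namespace CfsgLib.J2

open Cfsg.Spor

theorem card_out : Nat.card (Cfsg.Out J2) = 2 := by
  have hf : Finite J2 := Nat.finite_of_card_ne_zero (by rw [card_J2]; norm_num)
  have := simple_J2
  have hA : Nat.card (MulAut J2) = 1209600 := by
    rw [Nat.card_congr (MulAut.congr eJ).toEquiv, Perm.card_mulAut]
  have hinj : Function.Injective (MulAut.conj : J2 →* MulAut J2) := by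
    rw [← MonoidHom.ker_eq_bot_iff]
    rcases simple_J2.eq_bot_or_eq_top_of_normal (MulAut.conj : J2 →* MulAut J2).ker
      inferInstance with h | h
    · exact h
    · obtain ⟨a, b, hab⟩ := noncomm_J2
      have hm := DFunLike.congr_fun
        (MonoidHom.mem_ker.mp (h ▸ Subgroup.mem_top a : a ∈ (MulAut.conj : J2 →* MulAut J2).ker)) b
      rw [MulAut.conj_apply] at hm
      exact absurd (mul_inv_eq_iff_eq_mul.mp hm) hab
  have hI : Nat.card (Cfsg.Inn J2) = 604800 := by
    rw [show Nat.card (Cfsg.Inn J2) = Nat.card J2 from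
      (Nat.card_congr (MonoidHom.ofInjective hinj).toEquiv).symm, card_J2]
  have h := Subgroup.card_eq_card_quotient_mul_card_subgroup (Cfsg.Inn J2)
  rw [hA, hI] at h
  show Nat.card (MulAut J2 ⧸ Cfsg.Inn J2) = 2
  omega

end CfsgLib.J2
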