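import Cfsg.Agent.J2.Minimal

/-! Reflections of the icosian Leech lattice. -/

set_option autoImplicit false
set_option maxRecDepth 100000

namespace CfsgLib.J2

open Ico Quaternion Cfsg.Spor

/-- the reflection as a linear map -/
noncomputable def reflL (r : Fin 3 → ℍ[ℝ]) : (Fin 3 → ℍ[ℝ]) →ₗ[ℍ[ℝ]] (Fin 3 → ℍ[ℝ]) where
  toFun x := qrefl r x
  map_add' x y := by
    funext t
    simp only [qrefl, qip, Pi.add_apply, add_mul, Finset.sum_add_distrib, smul_add]
    abel
  map_smul' q x := by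
    funext t
    simp only [qrefl, qip, Pi.smul_apply, smul_eq_mul, mul_assoc, ← Finset.mul_sum,
      RingHom.id_apply, mul_sub, mul_smul_comm, smul_mul_assoc]

theorem reflL_apply (r x : Fin 3 → ℍ[ℝ]) : reflL r x = qrefl r x := rfl

theorem qrefl_eq (r x : Fin 3 → ℍ[ℝ]) : qrefl r x = x - ((1 / 2 : ℝ) • qip x r) • r := by
  funext t; simp [qrefl]

theorem qip_add_left (x y r : Fin 3 → ℍ[ℝ]) : qip (x + y) r = qip x r + qip y r := by
  simp [qip, add_mul, Finset.sum_add_distrib]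

theorem qip_sub_left (x y r : Fin 3 → ℍ[ℝ]) : qip (x - y) r = qip x r - qip y r := by
  simp [qip, sub_mul, Finset.sum_sub_distrib]

theorem qip_smul_left (c : ℍ[ℝ]) (x r : Fin 3 → ℍ[ℝ]) : qip (c • x) r = c * qip x r := by
  simp [qip, Finset.mul_sum, mul_assoc]

theorem qip_star (x r : Fin 3 → ℍ[ℝ]) : star (qip x r) = qip r x := by
  simp [qip, star_sum]

theorem qip_sub_right (x y r : Fin 3 → ℍ[ℝ]) : qip r (x - y) = qip r x - qip r y := by
  rw [← qip_star, qip_sub_left, star_sub, qip_star, qip_star]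

theorem qip_smul_right (c : ℍ[ℝ]) (x r : Fin 3 → ℍ[ℝ]) : qip r (c • x) = qip r x * star c := by
  rw [← qip_star, qip_smul_left, star_mul, qip_star]

theorem half_mul_four (q : ℍ[ℝ]) : ((1 / 2 : ℝ) • q) * 4 = q + q := by
  rw [show (4 : ℍ[ℝ]) = ((4 : ℝ) : ℍ[ℝ]) by norm_cast, Quaternion.mul_coe_eq_smul, smul_smul,
    ← two_smul ℝ q]
  norm_num

theorem qrefl_qrefl {r : Fin 3 → ℍ[ℝ]} (hr : qip r r = 4) (x : Fin 3 → ℍ[ℝ]) :
    qrefl r (qrefl r x) = x := by
  have h : qip (qrefl r x) r = -qip x r := by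
    rw [qrefl_eq, qip_sub_left, qip_smul_left, hr, half_mul_four]; abel
  rw [qrefl_eq r (qrefl r x), h, smul_neg, neg_smul, sub_neg_eq_add, qrefl_eq, sub_add_cancel]

theorem qip_qrefl {r : Fin 3 → ℍ[ℝ]} (hr : qip r r = 4) (x y : Fin 3 → ℍ[ℝ]) :
    qip (qrefl r x) (qrefl r y) = qip x y := by
  have hs : star ((1 / 2 : ℝ) • qip y r) = (1 / 2 : ℝ) • qip r y := by
    rw [Quaternion.star_smul, qip_star]
  simp only [qrefl_eq, qip_sub_left, qip_sub_right, qip_smul_left, qip_smul_right, hr, hs,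
    ← mul_assoc]
  rw [half_mul_four, sub_mul, add_mul, smul_mul_assoc, mul_smul_comm]
  module

theorem qrefl_smul {r : Fin 3 → ℍ[ℝ]} {u : ℍ[ℝ]} (hu : star u * u = 1) (x : Fin 3 → ℍ[ℝ]) :
    qrefl (u • r) x = qrefl r x := by
  rw [qrefl_eq, qrefl_eq, qip_smul_right, smul_smul, smul_mul_assoc, mul_assoc, hu, mul_one]

/-- the inner product in the model -/
def qipM (v r : MV) : Ico :=
  ((mulI v.x (conj r.x)).add (mulI v.y (conj r.y))).add (mulI v.z (conj r.z))

theorem toH_qipM {v r : MV} (hv : MV.allI v = true) (hr : MV.allI r = true) :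
    toH (qipM v r) = qip v.toV r.toV := by
  obtain ⟨a1, a2, a3⟩ := MV.allI_iff.mp hv
  obtain ⟨b1, b2, b3⟩ := MV.allI_iff.mp hr
  simp [qipM, qip, Fin.sum_univ_three, toH_mulI, a1, a2, a3, inI_conj b1, inI_conj b2, inI_conj b3]

/-- the reflection in the model -/
def reflM (r v : MV) : MV :=
  ⟨v.x.sub (mulI (qipM v r).half r.x), v.y.sub (mulI (qipM v r).half r.y),
    v.z.sub (mulI (qipM v r).half r.z)⟩

/-- the model formula applies -/
def reflAdm (r v : MV) : Bool :=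
  MV.allI r && MV.allI v && (qipM v r).even && inI (qipM v r).half

theorem toV_reflM {r v : MV} (h : reflAdm r v = true) :
    (reflM r v).toV = qrefl r.toV v.toV := by
  simp only [reflAdm, Bool.and_eq_true] at h
  obtain ⟨⟨⟨hr, hv⟩, he⟩, hi⟩ := h
  obtain ⟨b1, b2, b3⟩ := MV.allI_iff.mp hr
  have hh' : toH (qipM v r).half = (1 / 2 : ℝ) • qip v.toV r.toV := by
    rw [← toH_qipM hv hr, ← toH_half he, ← two_smul ℝ, smul_smul]; norm_num
  rw [qrefl_eq, ← hh']
  funext t
  fin_cases t <;> simp [reflM, toH_mulI, hi, b1, b2, b3]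

/-- evaluate a vector first -/
noncomputable def forceV {α : Type} (v : MV) (f : MV → α) : α :=
  forceI v.x fun a => forceI v.y fun b => forceI v.z fun c => f ⟨a, b, c⟩

theorem forceV_eq {α : Type} (v : MV) (f : MV → α) : forceV v f = f v := by
  simp [forceV, forceI_eq]

/-- the reflection in the model, evaluated once -/
noncomputable def withRefl (r v : MV) (f : MV → Bool) : Bool :=
  forceV r fun r => forceV v fun v => forceI (qipM v r) fun c => forceI c.half fun d =>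
    MV.allI r && MV.allI v && c.even && inI d &&
      forceV ⟨v.x.sub (mulI d r.x), v.y.sub (mulI d r.y), v.z.sub (mulI d r.z)⟩ f

theorem withRefl_spec {r v : MV} {f : MV → Bool} (h : withRefl r v f = true) :
    (reflM r v).toV = qrefl r.toV v.toV ∧ f (reflM r v) = true := by
  simp only [withRefl, forceV_eq, forceI_eq, Bool.and_eq_true] at h
  refine ⟨toV_reflM ?_, h.2⟩
  simp only [reflAdm, Bool.and_eq_true]
  exact h.1

/-- the first basis vector of the lattice -/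
def b0 : MV := ⟨one, one, ⟨⟨-1, 0⟩, ⟨1, 0⟩, ⟨-1, 2⟩, ⟨-1, 0⟩⟩⟩
/-- the second basis vector of the lattice -/
def b1 : MV := ⟨zero, hh, ⟨⟨-1, 0⟩, ⟨-1, 0⟩, ⟨1, -2⟩, ⟨1, 0⟩⟩⟩
/-- the third basis vector of the lattice -/
def b2 : MV := ⟨zero, zero, two⟩

/-- the right factor in `h̄ + h t = 1` -/
def tt : Ico := ⟨⟨0, -1⟩, ⟨0, -1⟩, ⟨0, -1⟩, ⟨0, -1⟩⟩

theorem b_ok : (MV.inL b0 && MV.inL b1 && MV.inL b2 &&
    decide ((hb.add (mulI hh tt)) = one)) = true := by decide +kernel

theorem two_of_both {x : Ico} (hx : inI x = true) (h1 : inIh x = true) (h2 : inIhb x = true) :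
    ∃ a : Ico, inI a = true ∧ toH x = toH a * 2 := by
  obtain ⟨qa, hqa, e1⟩ := (inIh_iff hx).mp h1
  obtain ⟨qb, hqb, e2⟩ := (inIhb_iff hx).mp h2
  obtain ⟨a, ha, rfl⟩ := mem_icosians.mp hqa
  obtain ⟨b, hb', rfl⟩ := mem_icosians.mp hqb
  have hkey : toH hb + toH hh * toH tt = 1 := by
    have h := b_ok
    simp only [Bool.and_eq_true, decide_eq_true_eq] at h
    rw [← toH_mulI (by decide) (by decide), ← toH_add, h.2, toH_one]
  refine ⟨a.add (mulI b tt), inI_add ha (inI_mulI hb' (by decide)), ?_⟩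
  rw [toH_add, toH_mulI hb' (by decide)]
  have c2 : ∀ q : ℍ[ℝ], q * 2 = 2 * q := fun q => (Commute.ofNat_right q 2).eq
  calc toH x = toH x * (toH hb + toH hh * toH tt) := by rw [hkey, mul_one]
    _ = toH a * 2 + toH b * 2 * toH tt := by
      rw [mul_add, ← mul_assoc]
      congr 1
      · rw [e1, ← toH_hh, mul_assoc, hh_mul_hb.1]
      · rw [e2, ← toH_hb, mul_assoc (toH b), hh_mul_hb.2]
    _ = (toH a + toH b * toH tt) * 2 := by rw [add_mul, mul_assoc, mul_assoc, c2 (toH tt)]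

theorem lattice_decomp {v : MV} (hv : MV.inL v = true) :
    ∃ a b c : Ico, inI a = true ∧ inI b = true ∧ inI c = true ∧
      v.toV = toH a • b0.toV + toH b • b1.toV + toH c • b2.toV := by
  obtain ⟨ha, hxy, hyz, hs⟩ := MV.inL_iff.mp hv
  obtain ⟨hx, hy, hz⟩ := MV.allI_iff.mp ha
  have hk := b_ok
  simp only [Bool.and_eq_true, decide_eq_true_eq] at hk
  obtain ⟨⟨⟨hb0, hb1⟩, -⟩, -⟩ := hk
  obtain ⟨q, hq, e⟩ := (inIh_iff (inI_sub hy hx)).mp (by
    have h0 := inIh_sub inI_zero (inI_sub hx hy) (by decide +kernel) hxy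
    have e : v.y.sub v.x = zero.sub (v.x.sub v.y) :=
      toH_injective (by simp only [toH_sub, toH_zero]; abel)
    rwa [e])
  obtain ⟨b, hb', rfl⟩ := mem_icosians.mp hq
  obtain ⟨ha0, h0a, h0b, h0s⟩ := MV.inL_iff.mp hb0
  obtain ⟨ha1, h1a, h1b, h1s⟩ := MV.inL_iff.mp hb1
  obtain ⟨i00, i01, i02⟩ := MV.allI_iff.mp ha0
  obtain ⟨i10, i11, i12⟩ := MV.allI_iff.mp ha1
  set s := v.z.sub ((mulI v.x b0.z).add (mulI b b1.z)) with hsdef
  have hsI : inI s = true := inI_sub hz (inI_add (inI_mulI hx i02) (inI_mulI hb' i12))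
  have esdef : toH s = toH v.z - (toH v.x * toH b0.z + toH b * toH b1.z) := by
    rw [hsdef, toH_sub, toH_add, toH_mulI hx i02, toH_mulI hb' i12]
  have ex : toH b0.x = 1 := toH_one
  have ey : toH b0.y = 1 := toH_one
  have fx : toH b1.x = 0 := toH_zero
  have fy : toH b1.y = icoH := toH_hh
  have hy' : toH v.y = toH v.x + toH b * icoH := by rw [← e, toH_sub]; abel
  have s1 : inIh s = true := by
    have e' : s = ((mulI v.x (b0.y.sub b0.z)).add (mulI b (b1.y.sub b1.z))).sub (v.y.sub v.z) :=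
      toH_injective (by
        rw [esdef, toH_sub, toH_add, toH_mulI hx (inI_sub i01 i02),
          toH_mulI hb' (inI_sub i11 i12), toH_sub, toH_sub, toH_sub, ey, fy, hy', mul_sub,
          mul_sub, mul_one]
        abel)
    rw [e']
    exact inIh_sub (inI_add (inI_mulI hx (inI_sub i01 i02)) (inI_mulI hb' (inI_sub i11 i12)))
      (inI_sub hy hz)
      (inIh_add (inI_mulI hx (inI_sub i01 i02)) (inI_mulI hb' (inI_sub i11 i12))
        (inIh_smul hx (inI_sub i01 i02) h0b) (inIh_smul hb' (inI_sub i11 i12) h1b)) hyz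
  have s2 : inIhb s = true := by
    have j0 := inI_add (inI_add i00 i01) i02
    have j1 := inI_add (inI_add i10 i11) i12
    have e' : s = ((v.x.add v.y).add v.z).sub
        ((mulI v.x ((b0.x.add b0.y).add b0.z)).add (mulI b ((b1.x.add b1.y).add b1.z))) :=
      toH_injective (by
        rw [esdef]
        simp only [toH_sub, toH_add, toH_mulI hx j0, toH_mulI hb' j1, ex, ey, fx, fy, hy',
          mul_add, mul_one, mul_zero]
        abel)
    rw [e']
    exact inIhb_sub (inI_add (inI_add hx hy) hz) (inI_add (inI_mulI hx j0) (inI_mulI hb' j1)) hs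
      (inIhb_add (inI_mulI hx j0) (inI_mulI hb' j1) (inIhb_smul hx j0 h0s)
        (inIhb_smul hb' j1 h1s))
  obtain ⟨c, hc, hce⟩ := two_of_both hsI s1 s2
  refine ⟨v.x, b, c, hx, hb', hc, ?_⟩
  funext t
  fin_cases t
  · simp [b0, b1, b2]
  · simpa [b0, b1, b2, toH_hh] using hy'
  · rw [esdef] at hce
    show toH v.z = toH v.x * toH b0.z + toH b * toH b1.z + toH c * toH two
    rw [toH_two, ← hce]; abel

/-- reflections preserve the basis -/
noncomputable def lineKeeps (i : Nat) : Bool :=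
  withRefl (lineV i) b0 MV.inL && withRefl (lineV i) b1 MV.inL && withRefl (lineV i) b2 MV.inL

theorem qrefl_mem {i : Fin 315} (h : lineKeeps i.val = true) {f : Fin 3 → ℍ[ℝ]}
    (hf : f ∈ icoLeech) : qrefl (lineR i) f ∈ icoLeech := by
  simp only [lineKeeps, Bool.and_eq_true] at h
  obtain ⟨⟨h0, h1⟩, h2⟩ := h
  obtain ⟨v, hv, rfl⟩ := MV.mem_icoLeech.mp hf
  obtain ⟨a, b, c, ha, hb', hc, e⟩ := lattice_decomp hv
  have key : ∀ {q : Ico} {w : MV}, inI q = true → withRefl (lineV i.val) w MV.inL = true →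
      toH q • qrefl (lineR i) w.toV ∈ icoLeech := by
    intro q w hq hw
    obtain ⟨e1, e2⟩ := withRefl_spec hw
    rw [lineR, ← e1, ← MV.toV_smul hq (MV.inL_iff.mp e2).1]
    exact MV.mem_icoLeech.mpr ⟨_, MV.inL_smul hq e2, rfl⟩
  have add' : ∀ f g : Fin 3 → ℍ[ℝ], f ∈ icoLeech → g ∈ icoLeech → f + g ∈ icoLeech := by
    intro f g hf hg
    obtain ⟨v, hv, rfl⟩ := MV.mem_icoLeech.mp hf
    obtain ⟨w, hw, rfl⟩ := MV.mem_icoLeech.mp hg
    obtain ⟨a1, a2, a3, a4⟩ := MV.inL_iff.mp hv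
    obtain ⟨c1, c2, c3, c4⟩ := MV.inL_iff.mp hw
    obtain ⟨p1, p2, p3⟩ := MV.allI_iff.mp a1
    obtain ⟨q1, q2, q3⟩ := MV.allI_iff.mp c1
    refine MV.mem_icoLeech.mpr ⟨⟨v.x.add w.x, v.y.add w.y, v.z.add w.z⟩, MV.inL_iff.mpr
      ⟨MV.allI_iff.mpr ⟨inI_add p1 q1, inI_add p2 q2, inI_add p3 q3⟩, ?_, ?_, ?_⟩, ?_⟩
    · have e : (v.x.add w.x).sub (v.y.add w.y) = (v.x.sub v.y).add (w.x.sub w.y) :=
        toH_injective (by simp only [toH_sub, toH_add]; abel)
      show inIh ((v.x.add w.x).sub (v.y.add w.y)) = true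
      rw [e]; exact inIh_add (inI_sub p1 p2) (inI_sub q1 q2) a2 c2
    · have e : (v.y.add w.y).sub (v.z.add w.z) = (v.y.sub v.z).add (w.y.sub w.z) :=
        toH_injective (by simp only [toH_sub, toH_add]; abel)
      show inIh ((v.y.add w.y).sub (v.z.add w.z)) = true
      rw [e]; exact inIh_add (inI_sub p2 p3) (inI_sub q2 q3) a3 c3
    · have e : ((v.x.add w.x).add (v.y.add w.y)).add (v.z.add w.z) =
          ((v.x.add v.y).add v.z).add ((w.x.add w.y).add w.z) :=
        toH_injective (by simp only [toH_add]; abel)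
      show inIhb (((v.x.add w.x).add (v.y.add w.y)).add (v.z.add w.z)) = true
      rw [e]; exact inIhb_add (inI_add (inI_add p1 p2) p3) (inI_add (inI_add q1 q2) q3) a4 c4
    · funext t
      fin_cases t <;> simp
  rw [e, ← reflL_apply, map_add, map_add, map_smul, map_smul, map_smul]
  exact add' _ _ (add' _ _ (key ha h0) (key hb' h1)) (key hc h2)

end CfsgLib.J2
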