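import Cfsg.Agent.J2.Chk0
import Cfsg.Agent.J2.Chk1
import Cfsg.Agent.J2.Chk2
import Cfsg.Agent.J2.Chk3

/-! The table contains every icosian of small norm. -/

set_option autoImplicit false
set_option maxRecDepth 100000

namespace CfsgLib.J2

open Ico

theorem tab_cand : ∀ k : Fin 31, candRow (vals.map valRow) (vals.getD k.val ⟨0, 0⟩) =
    (Data.tabs.getD k.val []).map low := by
  intro k
  match k with
  | ⟨0, _⟩ => exact cand0
  | ⟨1, _⟩ => exact cand1
  | ⟨2, _⟩ => exact cand2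
  | ⟨3, _⟩ => exact cand3
  | ⟨4, _⟩ => exact cand4
  | ⟨5, _⟩ => exact cand5
  | ⟨6, _⟩ => exact cand6
  | ⟨7, _⟩ => exact cand7
  | ⟨8, _⟩ => exact cand8
  | ⟨9, _⟩ => exact cand9
  | ⟨10, _⟩ => exact cand10
  | ⟨11, _⟩ => exact cand11
  | ⟨12, _⟩ => exact cand12
  | ⟨13, _⟩ => exact cand13
  | ⟨14, _⟩ => exact cand14
  | ⟨15, _⟩ => exact cand15
  | ⟨16, _⟩ => exact cand16
  | ⟨17, _⟩ => exact cand17
  | ⟨18, _⟩ => exact cand18
  | ⟨19, _⟩ => exact cand19
  | ⟨20, _⟩ => exact cand20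
  | ⟨21, _⟩ => exact cand21
  | ⟨22, _⟩ => exact cand22
  | ⟨23, _⟩ => exact cand23
  | ⟨24, _⟩ => exact cand24
  | ⟨25, _⟩ => exact cand25
  | ⟨26, _⟩ => exact cand26
  | ⟨27, _⟩ => exact cand27
  | ⟨28, _⟩ => exact cand28
  | ⟨29, _⟩ => exact cand29
  | ⟨30, _⟩ => exact cand30
  | ⟨_ + 31, h⟩ => exact absurd h (by omega)

theorem tab_rec : ∀ k : Fin 31, (Data.tabs.getD k.val []).all recOK = true := by
  intro k
  match k with
  | ⟨0, _⟩ => exact rec0
  | ⟨1, _⟩ => exact rec1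
  | ⟨2, _⟩ => exact rec2
  | ⟨3, _⟩ => exact rec3
  | ⟨4, _⟩ => exact rec4
  | ⟨5, _⟩ => exact rec5
  | ⟨6, _⟩ => exact rec6
  | ⟨7, _⟩ => exact rec7
  | ⟨8, _⟩ => exact rec8
  | ⟨9, _⟩ => exact rec9
  | ⟨10, _⟩ => exact rec10
  | ⟨11, _⟩ => exact rec11
  | ⟨12, _⟩ => exact rec12
  | ⟨13, _⟩ => exact rec13
  | ⟨14, _⟩ => exact rec14
  | ⟨15, _⟩ => exact rec15
  | ⟨16, _⟩ => exact rec16
  | ⟨17, _⟩ => exact rec17
  | ⟨18, _⟩ => exact rec18
  | ⟨19, _⟩ => exact rec19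
  | ⟨20, _⟩ => exact rec20
  | ⟨21, _⟩ => exact rec21
  | ⟨22, _⟩ => exact rec22
  | ⟨23, _⟩ => exact rec23
  | ⟨24, _⟩ => exact rec24
  | ⟨25, _⟩ => exact rec25
  | ⟨26, _⟩ => exact rec26
  | ⟨27, _⟩ => exact rec27
  | ⟨28, _⟩ => exact rec28
  | ⟨29, _⟩ => exact rec29
  | ⟨30, _⟩ => exact rec30
  | ⟨_ + 31, h⟩ => exact absurd h (by omega)

theorem vals_length : vals.length = 31 := by decide +kernel

theorem tabs_length : Data.tabs.length = 31 := by decide +kernel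

/-- the whole table -/
def tab : List Nat := Data.tabs.flatten

theorem mem_tab {n : Nat} (h : n ∈ tab) : recOK n = true := by
  obtain ⟨l, hl, hn⟩ := List.mem_flatten.mp h
  obtain ⟨k, hk, rfl⟩ := List.getElem_of_mem hl
  have hk' : k < 31 := tabs_length ▸ hk
  have := tab_rec ⟨k, hk'⟩
  rw [List.getD_eq_getElem _ _ hk] at this
  exact List.all_eq_true.mp this n hn

theorem bitsAt_eq (n s : Nat) : bitsAt n s 15 = n / 2 ^ s % 2 ^ 4 :=
  (Nat.and_two_pow_sub_one_eq_mod (Nat.shiftRight n s) 4).trans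
    (by rw [show Nat.shiftRight n s = n >>> s from rfl, Nat.shiftRight_eq_div_pow])

theorem low_eq (n : Nat) : low n = n % 2 ^ 32 := Nat.and_two_pow_sub_one_eq_mod n 32

theorem decI_of_low {n : Nat} {x : Ico}
    (h : low n = zcode x.c0 + 256 * zcode x.c1 + 65536 * zcode x.c2 + 16777216 * zcode x.c3)
    (hb : ∀ z ∈ [x.c0, x.c1, x.c2, x.c3], -8 ≤ z.a ∧ z.a ≤ 7 ∧ -8 ≤ z.b ∧ z.b ≤ 7) :
    decI n = x := by
  obtain ⟨⟨a0, b0⟩, ⟨a1, b1⟩, ⟨a2, b2⟩, ⟨a3, b3⟩⟩ := x
  simp only [low_eq, zcode] at h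
  simp only [List.mem_cons, List.not_mem_nil, or_false, forall_eq_or_imp, forall_eq] at hb
  simp only [decI, decZ, bitsAt_eq, Ico.mk.injEq, Zt.mk.injEq]
  omega

theorem vals_bound : ∀ z ∈ vals, -8 ≤ z.a ∧ z.a ≤ 7 ∧ -8 ≤ z.b ∧ z.b ≤ 7 := by
  intro z hz
  obtain ⟨h, -⟩ := List.mem_filter.mp hz
  obtain ⟨a, ha, h'⟩ := List.mem_flatMap.mp h
  obtain ⟨b, hb, rfl⟩ := List.mem_map.mp h'
  rw [List.mem_range] at ha hb
  dsimp only
  omega

theorem okP_left {p q : Zt} (hp : InCone p) (hq : InCone q) (h : okP (p.add q) = true) :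
    okP p = true := by
  simp only [okP, Bool.and_eq_true, decide_eq_true_eq] at h ⊢
  simp only [InCone, Zt.add] at *
  omega

theorem okP_right {p q : Zt} (hp : InCone p) (hq : InCone q) (h : okP (p.add q) = true) :
    okP q = true := by
  simp only [okP, Bool.and_eq_true, decide_eq_true_eq] at h ⊢
  simp only [InCone, Zt.add] at *
  omega

theorem parity_eq (z : Zt) (s t : ℤ) (hs : (z.a + s) % 2 = 0) (ht : (z.b + t) % 2 = 0) :
    (z.a % 2).toNat + 2 * (z.b % 2).toNat = (s % 2).toNat + 2 * (t % 2).toNat := by omega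

theorem exists_tab {x : Ico} (hx : inI x = true) (hn : okP x.nrm = true) :
    ∃ n ∈ tab, decI n = x := by
  have s0 := inCone_sq x.c0
  have s1 := inCone_sq x.c1
  have s2 := inCone_sq x.c2
  have s3 := inCone_sq x.c3
  have h012 := okP_left ((s0.add s1).add s2) s3 hn
  have h3 := okP_right ((s0.add s1).add s2) s3 hn
  have h01 := okP_left (s0.add s1) s2 h012
  have h2 := okP_right (s0.add s1) s2 h012
  have h0 := okP_left s0 s1 h01
  have h1 := okP_right s0 s1 h01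
  have hv := mem_vals h0
  obtain ⟨k, hk, hke⟩ := List.getElem_of_mem hv
  have hk' : k < 31 := vals_length ▸ hk
  have hc := tab_cand ⟨k, hk'⟩
  rw [List.getD_eq_getElem _ _ hk, hke] at hc
  simp only [inI, Bool.and_eq_true, beq_iff_eq] at hx
  have hm : zcode x.c0 + 256 * zcode x.c1 + 65536 * zcode x.c2 + 16777216 * zcode x.c3 ∈
      candRow (vals.map valRow) x.c0 := by
    refine List.mem_flatMap.mpr ⟨x.c1, mem_vals h1, ?_⟩
    rw [forceN_eq, forceN_eq, forceN_eq, forceN_eq, ← weight_add s0 s1,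
      wOK_weight (s0.add s1) h01, cond_true]
    refine mem_rowsFor (r := valRow x.c2) (List.mem_map.mpr ⟨_, mem_vals h2, rfl⟩) ?_ ?_ ?_
    · exact parity_eq _ _ _ (by omega) (by omega)
    · show wOK (_ + weight _) = true
      rw [← weight_add (s0.add s1) s2, wOK_weight ((s0.add s1).add s2) h012]
    · refine mem_rowsFor (r := valRow x.c3) (List.mem_map.mpr ⟨_, mem_vals h3, rfl⟩) ?_ ?_ ?_
      · exact parity_eq _ _ _ (by omega) (by omega)
      · show wOK (_ + weight _ + weight _) = true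
        rw [← weight_add (s0.add s1) s2, ← weight_add ((s0.add s1).add s2) s3]
        exact wOK_weight (((s0.add s1).add s2).add s3) hn
      · exact List.mem_singleton.mpr rfl
  rw [hc] at hm
  obtain ⟨n, hn', hne⟩ := List.mem_map.mp hm
  refine ⟨n, List.mem_flatten.mpr ⟨_, ?_, hn'⟩, decI_of_low hne ?_⟩
  · have hkl : k < Data.tabs.length := tabs_length.symm ▸ hk'
    exact List.getD_eq_getElem _ _ hkl ▸ List.getElem_mem hkl
  · intro z hz
    simp only [List.mem_cons, List.not_mem_nil, or_false] at hz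
    rcases hz with rfl | rfl | rfl | rfl
    · exact vals_bound _ (mem_vals h0)
    · exact vals_bound _ (mem_vals h1)
    · exact vals_bound _ (mem_vals h2)
    · exact vals_bound _ (mem_vals h3)

end CfsgLib.J2
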