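import Cfsg.Agent.J2.Table

/-! The integer model of the icosian Leech lattice. -/

set_option autoImplicit false
set_option maxRecDepth 100000

namespace CfsgLib.J2

open Ico Quaternion Cfsg.Spor

theorem inIh_iff {x : Ico} (hx : inI x = true) :
    inIh x = true ↔ ∃ a ∈ icosians, toH x = a * icoH := (mem_Ih hx).symm

theorem inIh_add {x y : Ico} (hx : inI x = true) (hy : inI y = true) (h1 : inIh x = true)
    (h2 : inIh y = true) : inIh (x.add y) = true := by
  obtain ⟨a, ha, e1⟩ := (inIh_iff hx).mp h1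
  obtain ⟨b, hb', e2⟩ := (inIh_iff hy).mp h2
  exact (inIh_iff (inI_add hx hy)).mpr ⟨a + b, add_mem ha hb', by rw [toH_add, e1, e2, add_mul]⟩

theorem inIh_sub {x y : Ico} (hx : inI x = true) (hy : inI y = true) (h1 : inIh x = true)
    (h2 : inIh y = true) : inIh (x.sub y) = true := by
  obtain ⟨a, ha, e1⟩ := (inIh_iff hx).mp h1
  obtain ⟨b, hb', e2⟩ := (inIh_iff hy).mp h2
  exact (inIh_iff (inI_sub hx hy)).mpr ⟨a - b, sub_mem ha hb', by rw [toH_sub, e1, e2, sub_mul]⟩

theorem inIhb_iff {x : Ico} (hx : inI x = true) :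
    inIhb x = true ↔ ∃ a ∈ icosians, toH x = a * star icoH := (mem_Ihb hx).symm

theorem inIhb_add {x y : Ico} (hx : inI x = true) (hy : inI y = true) (h1 : inIhb x = true)
    (h2 : inIhb y = true) : inIhb (x.add y) = true := by
  obtain ⟨a, ha, e1⟩ := (inIhb_iff hx).mp h1
  obtain ⟨b, hb', e2⟩ := (inIhb_iff hy).mp h2
  exact (inIhb_iff (inI_add hx hy)).mpr ⟨a + b, add_mem ha hb', by rw [toH_add, e1, e2, add_mul]⟩

theorem inIhb_sub {x y : Ico} (hx : inI x = true) (hy : inI y = true) (h1 : inIhb x = true)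
    (h2 : inIhb y = true) : inIhb (x.sub y) = true := by
  obtain ⟨a, ha, e1⟩ := (inIhb_iff hx).mp h1
  obtain ⟨b, hb', e2⟩ := (inIhb_iff hy).mp h2
  exact (inIhb_iff (inI_sub hx hy)).mpr ⟨a - b, sub_mem ha hb', by rw [toH_sub, e1, e2, sub_mul]⟩

theorem inIh_smul {q x : Ico} (hq : inI q = true) (hx : inI x = true) (h : inIh x = true) :
    inIh (mulI q x) = true := by
  obtain ⟨a, ha, e⟩ := (inIh_iff hx).mp h
  exact (inIh_iff (inI_mulI hq hx)).mpr
    ⟨toH q * a, mul_mem (toH_mem hq) ha, by rw [toH_mulI hq hx, e, mul_assoc]⟩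

theorem inIhb_smul {q x : Ico} (hq : inI q = true) (hx : inI x = true) (h : inIhb x = true) :
    inIhb (mulI q x) = true := by
  obtain ⟨a, ha, e⟩ := (inIhb_iff hx).mp h
  exact (inIhb_iff (inI_mulI hq hx)).mpr
    ⟨toH q * a, mul_mem (toH_mem hq) ha, by rw [toH_mulI hq hx, e, mul_assoc]⟩

theorem mulI_sub {q x y : Ico} (hq : inI q = true) (hx : inI x = true) (hy : inI y = true) :
    mulI q (x.sub y) = (mulI q x).sub (mulI q y) :=
  toH_injective (by
    rw [toH_sub, toH_mulI hq (inI_sub hx hy), toH_sub, toH_mulI hq hx, toH_mulI hq hy, mul_sub])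

theorem mulI_add {q x y : Ico} (hq : inI q = true) (hx : inI x = true) (hy : inI y = true) :
    mulI q (x.add y) = (mulI q x).add (mulI q y) :=
  toH_injective (by
    rw [toH_add, toH_mulI hq (inI_add hx hy), toH_add, toH_mulI hq hx, toH_mulI hq hy, mul_add])

/-- A triple of icosians. -/
structure MV where
  /-- component -/
  x : Ico
  /-- component -/
  y : Ico
  /-- component -/
  z : Ico

theorem MV.ext' {v w : MV} (hx : v.x = w.x) (hy : v.y = w.y) (hz : v.z = w.z) : v = w := by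
  obtain ⟨_, _, _⟩ := v; obtain ⟨_, _, _⟩ := w; simp_all

namespace MV

/-- the vector -/
noncomputable def toV (v : MV) : Fin 3 → ℍ[ℝ] := ![toH v.x, toH v.y, toH v.z]

@[simp] theorem toV_0 (v : MV) : v.toV 0 = toH v.x := rfl
@[simp] theorem toV_1 (v : MV) : v.toV 1 = toH v.y := rfl
@[simp] theorem toV_2 (v : MV) : v.toV 2 = toH v.z := rfl

theorem toV_injective : Function.Injective toV := fun v w h =>
  MV.ext' (toH_injective (congrFun h 0)) (toH_injective (congrFun h 1))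
    (toH_injective (congrFun h 2))

/-- all components are icosians -/
def allI (v : MV) : Bool := inI v.x && inI v.y && inI v.z

/-- membership in the lattice -/
def inL (v : MV) : Bool :=
  allI v && inIh (v.x.sub v.y) && inIh (v.y.sub v.z) && inIhb ((v.x.add v.y).add v.z)

/-- left multiple -/
def smul (q : Ico) (v : MV) : MV := ⟨mulI q v.x, mulI q v.y, mulI q v.z⟩

theorem allI_iff {v : MV} :
    allI v = true ↔ inI v.x = true ∧ inI v.y = true ∧ inI v.z = true := by
  simp [allI, and_assoc]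

theorem inL_iff {v : MV} :
    inL v = true ↔ allI v = true ∧ inIh (v.x.sub v.y) = true ∧ inIh (v.y.sub v.z) = true ∧
      inIhb ((v.x.add v.y).add v.z) = true := by
  simp [inL, and_assoc]

theorem toV_smul {q : Ico} {v : MV} (hq : inI q = true) (hv : allI v = true) :
    (smul q v).toV = toH q • v.toV := by
  obtain ⟨hx, hy, hz⟩ := allI_iff.mp hv
  funext t
  fin_cases t <;> simp [smul, toH_mulI, hq, hx, hy, hz]

theorem inL_smul {q : Ico} {v : MV} (hq : inI q = true) (hv : inL v = true) :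
    inL (smul q v) = true := by
  obtain ⟨ha, h1, h2, h3⟩ := inL_iff.mp hv
  obtain ⟨hx, hy, hz⟩ := allI_iff.mp ha
  refine inL_iff.mpr ⟨allI_iff.mpr ⟨inI_mulI hq hx, inI_mulI hq hy, inI_mulI hq hz⟩, ?_, ?_, ?_⟩
  · show inIh ((mulI q v.x).sub (mulI q v.y)) = true
    rw [← mulI_sub hq hx hy]; exact inIh_smul hq (inI_sub hx hy) h1
  · show inIh ((mulI q v.y).sub (mulI q v.z)) = true
    rw [← mulI_sub hq hy hz]; exact inIh_smul hq (inI_sub hy hz) h2
  · show inIhb (((mulI q v.x).add (mulI q v.y)).add (mulI q v.z)) = true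
    rw [← mulI_add hq hx hy, ← mulI_add hq (inI_add hx hy) hz]
    exact inIhb_smul hq (inI_add (inI_add hx hy) hz) h3

theorem mem_icoLeech {f : Fin 3 → ℍ[ℝ]} :
    f ∈ icoLeech ↔ ∃ v : MV, inL v = true ∧ v.toV = f := by
  constructor
  · rintro ⟨hI, h1, h2, h3⟩
    obtain ⟨a, ha, ea⟩ := mem_icosians.mp (hI 0)
    obtain ⟨b, hb', eb⟩ := mem_icosians.mp (hI 1)
    obtain ⟨c, hc, ec⟩ := mem_icosians.mp (hI 2)
    rw [← ea, ← eb, ← toH_sub] at h1
    rw [← eb, ← ec, ← toH_sub] at h2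
    rw [← ea, ← eb, ← ec, ← toH_add, ← toH_add] at h3
    refine ⟨⟨a, b, c⟩, inL_iff.mpr ⟨allI_iff.mpr ⟨ha, hb', hc⟩,
      (mem_Ih (inI_sub ha hb')).mp h1, (mem_Ih (inI_sub hb' hc)).mp h2,
      (mem_Ihb (inI_add (inI_add ha hb') hc)).mp h3⟩, ?_⟩
    funext t
    fin_cases t <;> simp [ea, eb, ec]
  · rintro ⟨v, hv, rfl⟩
    obtain ⟨ha, h1, h2, h3⟩ := inL_iff.mp hv
    obtain ⟨hx, hy, hz⟩ := allI_iff.mp ha
    refine ⟨fun t => ?_, ?_, ?_, ?_⟩
    · fin_cases t
      exacts [toH_mem hx, toH_mem hy, toH_mem hz]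
    · simpa using (mem_Ih (inI_sub hx hy)).mpr h1
    · simpa using (mem_Ih (inI_sub hy hz)).mpr h2
    · simpa using (mem_Ihb (inI_add (inI_add hx hy) hz)).mpr h3

/-- sixteen times the norm -/
def nrm (v : MV) : Zt := (v.x.nrm.add v.y.nrm).add v.z.nrm

theorem _root_.CfsgLib.J2.Ico.toH_mul_star (x : Ico) :
    toH x * star (toH x) = ((x.nrm.toR / 4 : ℝ) : ℍ[ℝ]) := by
  rw [Quaternion.self_mul_star]
  congr 1
  rw [Quaternion.normSq_def', Ico.nrm]
  simp only [re_toH, imI_toH, imJ_toH, imK_toH, Zt.toR_add, Zt.toR_mul]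
  ring

theorem qip_self (v : MV) : qip v.toV v.toV = ((v.nrm.toR / 4 : ℝ) : ℍ[ℝ]) := by
  simp only [qip, Fin.sum_univ_three, toV_0, toV_1, toV_2, toH_mul_star, ← Quaternion.coe_add,
    nrm, Zt.toR_add]
  congr 1
  ring

theorem qip_self_eq_four {v : MV} : qip v.toV v.toV = 4 ↔ v.nrm = ⟨16, 0⟩ := by
  rw [qip_self, show (4 : ℍ[ℝ]) = ((4 : ℝ) : ℍ[ℝ]) by norm_cast, Quaternion.coe_inj]
  constructor
  · intro h; exact Zt.toR_injective (by simp [Zt.toR] at h ⊢; linarith)
  · intro h; rw [h]; norm_num [Zt.toR]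

end MV

theorem qip_smul (q : ℍ[ℝ]) (f g : Fin 3 → ℍ[ℝ]) :
    qip (q • f) (q • g) = q * qip f g * star q := by
  simp only [qip, Pi.smul_apply, smul_eq_mul, Finset.mul_sum, Finset.sum_mul, star_mul, mul_assoc]

end CfsgLib.J2
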